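import Cfsg.Agent.Lib.LocalEven.BlockNormal.Fix

/-!
# Algebra for the centraliser of the commutator module of a block

An element of order four without eigenvalue `-1` forces an inverted coprime abelian group to act
trivially, and a subgroup of `SL₂(q)`, `q` odd, normalised by the derived group and avoiding `-1` is trivial.
-/

set_option autoImplicit false

namespace Cfsg.Agent.LocalEven.BlockCentral

open Cfsg Cfsg.Agent.LocalEven Cfsg.Agent.LocalEven.Block Cfsg.Agent.LocalEven.SubnBlock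
open Cfsg.Agent.LocalEven.BlockNormal
open scoped commutatorElement

section twist

variable {Λ : Type*} [AddCommGroup Λ] {A : Type*} [CommGroup A]

/-- If `T` has no eigenvalue `-1` and squares to the inversion of `A`, then `A` acts trivially. -/
theorem twist_trivial [Finite A] (h3 : ∀ x : Λ, 3 • x = 0) (hA2 : (Nat.card A).Coprime 2)
    (hA3 : (Nat.card A).Coprime 3) (φ : A →* A) (hφ : ∀ a, φ (φ a) = a⁻¹)
    (U : A →* AddMonoid.End Λ) (T T' : AddMonoid.End Λ) (hinv : T * T' = 1)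
    (hT : T ^ 3 - T ^ 2 + T - 1 = 0) (hc : ∀ a, T * U a = U (φ a) * T) (a : A) : U a = 1 := by
  have hsq : ∀ x : A, x * x = 1 → x = 1 := fun x hx => by
    have h1 : x ^ Nat.gcd (Nat.card A) 2 = 1 := pow_gcd_eq_one.2 ⟨pow_card_eq_one', by rw [pow_two, hx]⟩
    rwa [hA2.gcd_eq_one, pow_one] at h1
  have hUc : ∀ x y, U x * U y = U y * U x := fun x y => by rw [← map_mul, mul_comm, map_mul]
  have c2 : ∀ x, T ^ 2 * U x = U x⁻¹ * T ^ 2 := fun x => by
    rw [pow_two, mul_assoc, hc, ← mul_assoc, hc, hφ, mul_assoc]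
  have c3 : ∀ x, T ^ 3 * U x = U (φ x)⁻¹ * T ^ 3 := fun x => by
    rw [pow_succ T 2, mul_assoc, hc, ← mul_assoc, c2, mul_assoc]
  have key : ∀ a b c : A, (U (φ a)⁻¹ - U a) * (U (φ b)⁻¹ - U (φ b)) * (U (φ c)⁻¹ - U c⁻¹) = 0 := by
    intro a b c
    have s1 : (U (φ a)⁻¹ - U a) * T ^ 3 - (U a⁻¹ - U a) * T ^ 2 + (U (φ a) - U a) * T = 0 := by
      have e : (T ^ 3 * U a - U a * T ^ 3) - (T ^ 2 * U a - U a * T ^ 2) + (T * U a - U a * T) = 0 := by
        have h1 : (T ^ 3 - T ^ 2 + T - 1) * U a - U a * (T ^ 3 - T ^ 2 + T - 1) = 0 := by simp [hT]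
        rw [← h1]
        noncomm_ring
      rw [c3, c2, hc] at e
      rw [← e]
      noncomm_ring
    generalize hα3 : U (φ a)⁻¹ - U a = α3 at s1 ⊢
    generalize hα2 : U a⁻¹ - U a = α2 at s1 ⊢
    generalize hα1 : U (φ a) - U a = α1 at s1 ⊢
    have k3 : ∀ x, U x * α3 = α3 * U x := fun x => by rw [← hα3, mul_sub, sub_mul, hUc x, hUc x]
    have k2 : ∀ x, U x * α2 = α2 * U x := fun x => by rw [← hα2, mul_sub, sub_mul, hUc x, hUc x]
    have k1 : ∀ x, U x * α1 = α1 * U x := fun x => by rw [← hα1, mul_sub, sub_mul, hUc x, hUc x]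
    have s2 : α3 * (U (φ b)⁻¹ - U (φ b)) * T ^ 3 - α2 * (U b⁻¹ - U (φ b)) * T ^ 2 = 0 := by
      have e : (α3 * (T ^ 3 * U b) - U (φ b) * α3 * T ^ 3) - (α2 * (T ^ 2 * U b) - U (φ b) * α2 * T ^ 2) +
          (α1 * (T * U b) - U (φ b) * α1 * T) = 0 := by
        have h1 : (α3 * T ^ 3 - α2 * T ^ 2 + α1 * T) * U b -
            U (φ b) * (α3 * T ^ 3 - α2 * T ^ 2 + α1 * T) = 0 := by simp [s1]
        rw [← h1]
        noncomm_ring
      rw [c3, c2, hc, k3, k2, k1] at e
      rw [← e]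
      noncomm_ring
    generalize hβ3 : U (φ b)⁻¹ - U (φ b) = β3 at s2 ⊢
    generalize hβ2 : U b⁻¹ - U (φ b) = β2 at s2 ⊢
    have l3 : ∀ x, U x * β3 = β3 * U x := fun x => by rw [← hβ3, mul_sub, sub_mul, hUc x, hUc x]
    have l2 : ∀ x, U x * β2 = β2 * U x := fun x => by rw [← hβ2, mul_sub, sub_mul, hUc x, hUc x]
    have s3 : α3 * β3 * (U (φ c)⁻¹ - U c⁻¹) * T ^ 3 = 0 := by
      have e : (α3 * β3 * (T ^ 3 * U c) - U c⁻¹ * (α3 * β3) * T ^ 3) -
          (α2 * β2 * (T ^ 2 * U c) - U c⁻¹ * (α2 * β2) * T ^ 2) = 0 := by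
        have h1 : (α3 * β3 * T ^ 3 - α2 * β2 * T ^ 2) * U c -
            U c⁻¹ * (α3 * β3 * T ^ 3 - α2 * β2 * T ^ 2) = 0 := by simp [s2]
        rw [← h1]
        noncomm_ring
      rw [c3, c2] at e
      simp only [← mul_assoc, k3, k2] at e
      simp only [mul_assoc α3, mul_assoc α2, l3, l2] at e
      rw [← e]
      noncomm_ring
    have hT3 : T ^ 3 * T' ^ 3 = 1 := by
      have : ∀ j : ℕ, T ^ j * T' ^ j = 1 := by
        intro j
        induction j with
        | zero => simp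
        | succ j ih => rw [pow_succ, pow_succ', mul_assoc, ← mul_assoc T, hinv, one_mul, ih]
      exact this 3
    have h4 := congrArg (· * T' ^ 3) s3
    simpa [mul_assoc, hT3] using h4
  have hfac : ∀ x y, U x - U y = U y * (U (y⁻¹ * x) - 1) := fun x y => by
    rw [mul_sub, ← map_mul, mul_inv_cancel_left, mul_one]
  have hcube : ∀ g1 g2 g3 : A, (U g1 - 1) * (U g2 - 1) * (U g3 - 1) = 0 := by
    intro g1 g2 g3
    have hb1 : Function.Bijective fun x : A => (x * φ x)⁻¹ :=
      Finite.injective_iff_bijective.1 fun x y hxy => by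
        have e : (x * y⁻¹) * φ (x * y⁻¹) = 1 := by
          rw [map_mul, map_inv, mul_mul_mul_comm, inv_inj.1 hxy, mul_mul_mul_comm, mul_inv_cancel,
            mul_inv_cancel, one_mul]
        have e1 := congrArg φ e
        rw [map_mul, map_one, hφ] at e1
        have e2 : φ (x * y⁻¹) = (x * y⁻¹)⁻¹ := eq_inv_of_mul_eq_one_right e
        rw [e2] at e1
        exact mul_inv_eq_one.1 (inv_eq_one.1 (hsq _ e1))
    have hb2 : Function.Bijective fun x : A => ((φ x)⁻¹) * (φ x)⁻¹ :=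
      Finite.injective_iff_bijective.1 fun x y hxy => by
        have e := hsq ((φ x)⁻¹ * φ y) (by
          rw [mul_mul_mul_comm, show (φ x)⁻¹ * (φ x)⁻¹ = (φ y)⁻¹ * (φ y)⁻¹ from hxy, mul_mul_mul_comm,
            inv_mul_cancel, one_mul])
        have e2 := congrArg φ (inv_mul_eq_one.1 e)
        rw [hφ, hφ, inv_inj] at e2
        exact e2
    have hb3 : Function.Bijective fun x : A => x * (φ x)⁻¹ :=
      Finite.injective_iff_bijective.1 fun x y hxy => by
        have e : φ (x * y⁻¹) = x * y⁻¹ := by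
          rw [map_mul, map_inv, mul_inv_eq_iff_eq_mul, eq_comm, mul_assoc, mul_comm y⁻¹, ← mul_assoc,
            mul_inv_eq_iff_eq_mul]
          have := congrArg (· * (φ x * φ y)) (show x * (φ x)⁻¹ = y * (φ y)⁻¹ from hxy)
          simpa [mul_assoc, mul_comm, mul_left_comm] using this
        have e1 := congrArg φ e
        rw [hφ, e] at e1
        exact mul_inv_eq_one.1 (hsq _ (inv_eq_iff_mul_eq_one.1 e1))
    obtain ⟨x, rfl⟩ := hb1.2 g1
    obtain ⟨y, rfl⟩ := hb2.2 g2
    obtain ⟨z, rfl⟩ := hb3.2 g3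
    have h := key x y z
    rw [hfac, hfac (φ y)⁻¹, hfac (φ z)⁻¹, inv_inv] at h
    have hu : IsUnit (U x * U (φ y) * U z⁻¹) := by
      rw [← map_mul, ← map_mul]
      exact (Group.isUnit _).map U
    refine hu.mul_right_eq_zero.1 ?_
    rw [← h]
    have hcm : ∀ u v : A, (U u - 1) * U v = U v * (U u - 1) := fun u v => by
      rw [sub_mul, mul_sub, hUc, one_mul, mul_one]
    show U x * U (φ y) * U z⁻¹ * ((U ((x * φ x)⁻¹) - 1) * (U ((φ y)⁻¹ * (φ y)⁻¹) - 1) *
      (U (z * (φ z)⁻¹) - 1)) = _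
    rw [show (x * φ x)⁻¹ = x⁻¹ * (φ x)⁻¹ from mul_inv x (φ x)]
    simp only [mul_assoc]
    rw [← mul_assoc (U z⁻¹) (U (x⁻¹ * (φ x)⁻¹) - 1), ← hcm, mul_assoc,
      ← mul_assoc (U (φ y)) (U (x⁻¹ * (φ x)⁻¹) - 1), ← hcm, mul_assoc,
      ← mul_assoc (U z⁻¹) (U ((φ y)⁻¹ * (φ y)⁻¹) - 1), ← hcm]
    simp only [mul_assoc]
  have h3e : (3 : AddMonoid.End Λ) = 0 := by
    ext x
    have := h3 x
    simpa using this
  have hc3 : ∀ g : A, U (g ^ 3) = 1 := fun g => by
    have := hcube g g g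
    rw [map_pow, ← sub_eq_zero]
    have e : U g ^ 3 - 1 = (U g - 1) * (U g - 1) * (U g - 1) + (3 : AddMonoid.End Λ) * (U g * U g - U g) := by
      noncomm_ring
    rw [e, this, h3e, zero_mul, add_zero]
  obtain ⟨g, rfl⟩ : ∃ g, g ^ 3 = a := (powCoprime hA3).surjective a
  exact hc3 g

end twist

section sl2

variable {F : Type} [Field F] [Fintype F]

local notation "SL2" => Matrix.SpecialLinearGroup (Fin 2) F

/-- `-1`. -/
def negOne : SL2 := ⟨!![-1, 0; 0, -1], by simp [Matrix.det_fin_two]⟩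

/-- `(0 1; -1 0)`. -/
def jEl : SL2 := ⟨!![0, 1; -1, 0], by simp [Matrix.det_fin_two]⟩

theorem jEl_sq : (jEl : SL2) * jEl = negOne := by
  apply Subtype.ext
  show !![(0 : F), 1; -1, 0] * !![0, 1; -1, 0] = !![-1, 0; 0, -1]
  simp [Matrix.mul_fin_two]

theorem negOne_act (v : Fin 2 → F) :
    ((negOne : SL2) : Matrix (Fin 2) (Fin 2) F).mulVec v = -v := by
  funext i
  fin_cases i <;> simp [negOne, Matrix.mulVec, dotProduct, Fin.sum_univ_two]

theorem two_ne (h3 : (3 : F) = 0) : (2 : F) ≠ 0 := fun h => by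
  have : (1 : F) = 0 := by linear_combination h3 - h
  exact one_ne_zero this

theorem negOne_ne (h3 : (3 : F) = 0) : (negOne : SL2) ≠ 1 := fun h => by
  have := congrArg (fun M : SL2 => (M : Matrix (Fin 2) (Fin 2) F) 0 0) h
  simp [negOne] at this
  exact two_ne h3 (by linear_combination -this)

theorem sq_eq_negOne {g : SL2} (ht : (g : Matrix (Fin 2) (Fin 2) F) 0 0 + (g : Matrix (Fin 2) (Fin 2) F) 1 1 = 0) :
    g * g = negOne := by
  have hd := g.2
  rw [Matrix.det_fin_two] at hd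
  apply Subtype.ext
  show (g : Matrix (Fin 2) (Fin 2) F) * (g : Matrix (Fin 2) (Fin 2) F) = !![-1, 0; 0, -1]
  ext i j
  fin_cases i <;> fin_cases j <;> simp [Matrix.mul_apply, Fin.sum_univ_two]
  · linear_combination (g : Matrix (Fin 2) (Fin 2) F) 0 0 * ht - hd
  · linear_combination (g : Matrix (Fin 2) (Fin 2) F) 0 1 * ht
  · linear_combination (g : Matrix (Fin 2) (Fin 2) F) 1 0 * ht
  · linear_combination (g : Matrix (Fin 2) (Fin 2) F) 1 1 * ht - hd

theorem three_cases : ∀ a b c d : ZMod 3, a * d - b * c = 1 →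
    (b = 0 ∧ c = 0 ∧ a = d) ∨ a + d = 0 ∨ a * a + b * b + c * c + d * d = 0 := by decide

/-- `j` is a commutator-product. -/
theorem jEl_mem (h3 : (3 : F) = 0) : (jEl : SL2) ∈ commutator SL2 := by
  have e : (jEl : SL2)⁻¹ = ut 1 * ⁅(ut 1 : SL2), jEl⁆ * (ut 1)⁻¹ := by
    rw [commutatorElement_def]
    apply Subtype.ext
    simp only [Matrix.SpecialLinearGroup.coe_mul, Matrix.SpecialLinearGroup.coe_inv, Matrix.adjugate_fin_two]
    ext i j
    fin_cases i <;> fin_cases j <;>
      simp [ut, jEl, Matrix.mul_apply, Fin.sum_univ_two]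
    all_goals first | ring1 | linear_combination -h3 | linear_combination h3
  rw [← inv_mem_iff, e]
  exact (inferInstance : (commutator SL2).Normal).conj_mem _
    (Subgroup.commutator_mem_commutator (Subgroup.mem_top _) (Subgroup.mem_top _)) _

/-- Central elements are signs. -/
theorem eq_of_commute {g : SL2} (h : ∀ x : SL2, x * g = g * x) : g = 1 ∨ g = negOne := by
  have h1 := congrArg (fun M : SL2 => (M : Matrix (Fin 2) (Fin 2) F)) (h (ut 1))
  simp only [Matrix.SpecialLinearGroup.coe_mul] at h1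
  have e00 := congrFun (congrFun h1 0) 0
  have e01 := congrFun (congrFun h1 0) 1
  have h2 := congrArg (fun M : SL2 => (M : Matrix (Fin 2) (Fin 2) F)) (h jEl)
  simp only [Matrix.SpecialLinearGroup.coe_mul] at h2
  have f00 := congrFun (congrFun h2 0) 0
  simp [ut, jEl, Matrix.mul_apply, Fin.sum_univ_two] at e00 e01 f00
  have hd := g.2
  rw [Matrix.det_fin_two] at hd
  set a := (g : Matrix (Fin 2) (Fin 2) F) 0 0 with ha
  set b := (g : Matrix (Fin 2) (Fin 2) F) 0 1 with hb
  set c := (g : Matrix (Fin 2) (Fin 2) F) 1 0 with hc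
  set d := (g : Matrix (Fin 2) (Fin 2) F) 1 1 with hd'
  have hc0 : c = 0 := by linear_combination e00
  have hda : d = a := by linear_combination e01
  have hb0 : b = 0 := by linear_combination f00 - hc0
  have ha2 : (a - 1) * (a + 1) = 0 := by linear_combination hd - a * hda + c * hb0
  rcases mul_eq_zero.1 ha2 with h3 | h3
  · left
    have : a = 1 := sub_eq_zero.1 h3
    ext i j
    fin_cases i <;> fin_cases j <;> simp [← ha, ← hb, ← hc, ← hd', hb0, hc0, hda, this]
  · right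
    have : a = -1 := by linear_combination h3
    ext i j
    fin_cases i <;> fin_cases j <;> simp [negOne, ← ha, ← hb, ← hc, ← hd', hb0, hc0, hda, this]

/-- A subgroup normalised by the derived group and avoiding `-1` is trivial. -/
theorem eq_bot_of_no_negOne (h3 : (3 : F) = 0) (hq3 : 3 ≤ Fintype.card F) (L : Subgroup SL2)
    (hn : ∀ s ∈ commutator SL2, ∀ g ∈ L, s * g * s⁻¹ ∈ L) (hneg : (negOne : SL2) ∉ L) : L = ⊥ := by
  rw [Subgroup.eq_bot_iff_forall]
  intro g hg
  by_cases h4 : 4 ≤ Fintype.card F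
  · obtain ⟨htop, hperf, hsimp⟩ := sl2_quasisimple h4
    haveI hLn : L.Normal := ⟨fun n hn' x => hn x (htop ▸ Subgroup.mem_top x) n hn'⟩
    haveI := hsimp
    rcases IsSimpleGroup.eq_bot_or_eq_top_of_normal _
      (hLn.map (QuotientGroup.mk' (Subgroup.center SL2)) (QuotientGroup.mk'_surjective _)) with h | h
    · have hgc : g ∈ Subgroup.center SL2 := (QuotientGroup.eq_one_iff g).1
        (Subgroup.mem_bot.1 (h ▸ Subgroup.mem_map_of_mem _ hg))
      exact (eq_of_commute fun x => Subgroup.mem_center_iff.1 hgc x).resolve_right fun e => hneg (e ▸ hg)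
    · refine absurd ?_ hneg
      have hsup : L ⊔ Subgroup.center SL2 = ⊤ := by
        rw [← QuotientGroup.ker_mk' (Subgroup.center SL2), ← Subgroup.comap_map_eq, h, Subgroup.comap_top]
      have hle : commutator SL2 ≤ L := by
        rw [commutator_def, Subgroup.commutator_le]
        intro x _ y _
        obtain ⟨l, hl, z, hz, rfl⟩ := Subgroup.mem_sup_of_normal_left.1 (hsup ▸ Subgroup.mem_top x)
        obtain ⟨m, hm, w, hw, rfl⟩ := Subgroup.mem_sup_of_normal_left.1 (hsup ▸ Subgroup.mem_top y)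
        have hz' := Subgroup.mem_center_iff.1 hz
        have hw' := Subgroup.mem_center_iff.1 hw
        have e : ⁅l * z, m * w⁆ = ⁅l, m⁆ := by
          rw [commutatorElement_def, commutatorElement_def, mul_inv_rev, mul_inv_rev]
          calc l * z * (m * w) * (z⁻¹ * l⁻¹) * (w⁻¹ * m⁻¹) = l * (z * (m * w) * z⁻¹) * l⁻¹ * (w⁻¹ * m⁻¹) := by group
            _ = l * (m * w) * l⁻¹ * (w⁻¹ * m⁻¹) := by rw [← hz' (m * w), mul_inv_cancel_right]
            _ = l * m * (w * l⁻¹ * w⁻¹) * m⁻¹ := by group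
            _ = _ := by rw [← hw' l⁻¹, mul_inv_cancel_right]
        rw [e, commutatorElement_def]
        exact mul_mem (mul_mem (mul_mem hl hm) (inv_mem hl)) (inv_mem hm)
      exact hle (htop ▸ Subgroup.mem_top _)
  have hq : Fintype.card F = 3 := by omega
  haveI : Fact (Nat.Prime 3) := ⟨Nat.prime_three⟩
  have hd := g.2
  rw [Matrix.det_fin_two] at hd
  let ι := ZMod.ringEquivOfPrime F Nat.prime_three hq
  obtain ⟨a, ha⟩ := ι.surjective ((g : Matrix (Fin 2) (Fin 2) F) 0 0)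
  obtain ⟨b, hb⟩ := ι.surjective ((g : Matrix (Fin 2) (Fin 2) F) 0 1)
  obtain ⟨c, hc⟩ := ι.surjective ((g : Matrix (Fin 2) (Fin 2) F) 1 0)
  obtain ⟨d, hd'⟩ := ι.surjective ((g : Matrix (Fin 2) (Fin 2) F) 1 1)
  have hdet : a * d - b * c = 1 := ι.injective (by
    rw [map_sub, map_mul, map_mul, map_one, ha, hb, hc, hd']; exact hd)
  rcases three_cases a b c d hdet with ⟨rfl, rfl, rfl⟩ | ht | hs
  · rw [map_zero] at hb hc
    refine (eq_of_commute fun x => ?_).resolve_right fun e => hneg (e ▸ hg)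
    apply Subtype.ext
    simp only [Matrix.SpecialLinearGroup.coe_mul]
    ext i j
    fin_cases i <;> fin_cases j <;> simp [Matrix.mul_apply, Fin.sum_univ_two, ← hb, ← hc, ← ha, ← hd', mul_comm]
  · exact absurd (sq_eq_negOne (g := g) (by rw [← ha, ← hd', ← map_add, ht, map_zero]) ▸ mul_mem hg hg) hneg
  · refine absurd ?_ hneg
    have hL : g * (jEl * g⁻¹ * jEl⁻¹) ∈ L := mul_mem hg (hn _ (jEl_mem h3) _ (inv_mem hg))
    suffices e : g * (jEl * g⁻¹ * jEl⁻¹) * (g * (jEl * g⁻¹ * jEl⁻¹)) = negOne by exact e ▸ mul_mem hL hL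
    refine sq_eq_negOne ?_
    have hs' := congrArg ι hs
    rw [map_add, map_add, map_add, map_mul, map_mul, map_mul, map_mul, map_zero, ha, hb, hc, hd'] at hs'
    simp only [Matrix.SpecialLinearGroup.coe_mul, Matrix.SpecialLinearGroup.coe_inv, Matrix.adjugate_fin_two]
    simp [jEl, Matrix.mul_apply, Fin.sum_univ_two]
    linear_combination hs'

end sl2

end Cfsg.Agent.LocalEven.BlockCentral
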