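import Cfsg.Agent.Lib.LocalEven.BlockNormal.Quad

/-!
# The commutator form on a natural section
-/

set_option autoImplicit false

open scoped commutatorElement

namespace Cfsg.Agent.LocalEven.BlockCentral

open Cfsg Cfsg.Agent.Fusion Cfsg.Agent.LocalEven.Block Cfsg.Agent.LocalEven.SubnBlock
open Cfsg.Agent.LocalEven.BlockNormal

variable {G : Type*} [Group G] {p : ℕ} [hp : Fact p.Prime] {E Q W : Subgroup G}
  {F : Type} [Field F] [Fintype F]

omit hp in
/-- Commutators in `Q` only depend on the classes modulo central elements. -/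
theorem comm_congr (hcen : ∀ a ∈ Q, ∀ w ∈ W, a * w = w * a) (hWQ : W ≤ Q) {a b a' b' : G}
    (ha : a' ∈ Q) (hb : b' ∈ Q) (hwa : a'⁻¹ * a ∈ W) (hwb : b'⁻¹ * b ∈ W) : ⁅a, b⁆ = ⁅a', b'⁆ := by
  obtain ⟨w, hw, rfl⟩ : ∃ w ∈ W, a = a' * w := ⟨_, hwa, by group⟩
  obtain ⟨w', hw', rfl⟩ : ∃ w ∈ W, b = b' * w := ⟨_, hwb, by group⟩
  simp only [commutatorElement_def]
  have c1 : w * (b' * w') * w⁻¹ = b' * w' := by
    rw [← hcen _ (mul_mem hb (hWQ hw')) w hw, mul_inv_cancel_right]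
  have c2 : w' * a'⁻¹ * w'⁻¹ = a'⁻¹ := by rw [← hcen _ (inv_mem ha) w' hw', mul_inv_cancel_right]
  calc a' * w * (b' * w') * (a' * w)⁻¹ * (b' * w')⁻¹ =
      a' * (w * (b' * w') * w⁻¹) * a'⁻¹ * w'⁻¹ * b'⁻¹ := by group
    _ = a' * b' * (w' * a'⁻¹ * w'⁻¹) * b'⁻¹ := by rw [c1]; group
    _ = _ := by rw [c2]

/-- The commutator on `Q / W` is a function of the determinant. -/
theorem exists_form (S : Sec E Q W F) (hq : 3 ≤ Fintype.card F) {n : ℕ} (hn : Fintype.card F = p ^ n)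
    (hp3 : p = 3) (hcen : ∀ a ∈ Q, ∀ w ∈ W, a * w = w * a) (hWQ : W ≤ Q) (hZW : ⁅Q, Q⁆ ≤ W)
    (hZE : ∀ z ∈ ⁅Q, Q⁆, ∀ e ∈ E, e * z = z * e) :
    ∃ Φ : Multiplicative F →* G, ∀ a ∈ Q, ∀ b ∈ Q,
      ⁅a, b⁆ = Φ (Multiplicative.ofAdd (dd (S.c a) (S.c b))) := by
  classical
  choose lf hlf hclf using S.c_surj
  obtain ⟨ω, hω⟩ : ∃ ω : (Fin 2 → F) → (Fin 2 → F) → G, ∀ u v, ω u v = ⁅lf u, lf v⁆ := ⟨_, fun _ _ => rfl⟩
  have hωc : ∀ a ∈ Q, ∀ b ∈ Q, ⁅a, b⁆ = ω (S.c a) (S.c b) := fun a ha b hb => by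
    rw [hω]
    refine comm_congr hcen hWQ (hlf _) (hlf _) ?_ ?_
    · exact (S.eq_iff (hlf _) ha).1 (hclf _)
    · exact (S.eq_iff (hlf _) hb).1 (hclf _)
  have hωZ : ∀ u v, ω u v ∈ ⁅Q, Q⁆ := fun u v => by
    rw [hω]; exact Subgroup.commutator_mem_commutator (hlf u) (hlf v)
  have hcomm : ∀ {x y : G}, x ∈ ⁅Q, Q⁆ → y ∈ ⁅Q, Q⁆ → x * y = y * x := fun hx hy =>
    hcen _ (hWQ (hZW hx)) _ (hZW hy)
  have haddl : ∀ u u' v, ω (u + u') v = ω u v * ω u' v := fun u u' v => by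
    have h1 := hωc _ (mul_mem (hlf u) (hlf u')) _ (hlf v)
    rw [S.c_mul _ (hlf u) _ (hlf u'), hclf, hclf, hclf] at h1
    rw [← h1, show ⁅lf u * lf u', lf v⁆ = lf u * ⁅lf u', lf v⁆ * (lf u)⁻¹ * ⁅lf u, lf v⁆ by
      simp only [commutatorElement_def]; group, ← hω, ← hω,
      hcen _ (hlf u) _ (hZW (hωZ u' v)), mul_inv_cancel_right, hcomm (hωZ u' v) (hωZ u v)]
  have hsw : ∀ u v, ω v u = (ω u v)⁻¹ := fun u v => by rw [hω, hω, commutatorElement_inv]
  have haddr : ∀ u v v', ω u (v + v') = ω u v * ω u v' := fun u v v' => by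
    rw [hsw (v + v') u, haddl, mul_inv_rev, ← hsw, ← hsw, hcomm (hωZ u v') (hωZ u v)]
  have h0r : ∀ u, ω u 0 = 1 := fun u => by simpa using haddr u 0 0
  have h0l : ∀ u, ω 0 u = 1 := fun u => by rw [hsw u 0, h0r, inv_one]
  have hself : ∀ u, ω u u = 1 := fun u => by rw [hω]; exact commutatorElement_self _
  have hinv : ∀ M ∈ commutator (Matrix.SpecialLinearGroup (Fin 2) F), ∀ u v,
      ω ((M : Matrix (Fin 2) (Fin 2) F).mulVec u) ((M : Matrix (Fin 2) (Fin 2) F).mulVec v) = ω u v := by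
    intro M hM u v
    rw [← S.range] at hM
    obtain ⟨e, rfl⟩ := hM
    have h1 := hωc _ (S.toCoord.conj_mem (S.norm e.2) (hlf u)) _ (S.toCoord.conj_mem (S.norm e.2) (hlf v))
    rw [S.c_conj e _ (hlf u), S.c_conj e _ (hlf v), hclf, hclf] at h1
    rw [← h1, show ⁅(e : G) * lf u * (e : G)⁻¹, (e : G) * lf v * (e : G)⁻¹⁆ =
      (e : G) * ⁅lf u, lf v⁆ * (e : G)⁻¹ by simp only [commutatorElement_def]; group, ← hω,
      hZE _ (hωZ u v) e e.2, mul_inv_cancel_right]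
  set e1 : Fin 2 → F := ![1, 0] with he1
  set e2 : Fin 2 → F := ![0, 1] with he2
  let Φ : Multiplicative F →* G := MonoidHom.mk' (fun d => ω e1 (Multiplicative.toAdd d • e2))
    fun d d' => by
      show ω e1 ((Multiplicative.toAdd d + Multiplicative.toAdd d') • e2) = _
      rw [add_smul, haddr]
  have hΦ : ∀ d : F, Φ (Multiplicative.ofAdd d) = ω e1 (d • e2) := fun d => rfl
  suffices key : ∀ u v, ω u v = ω e1 (dd u v • e2) by
    exact ⟨Φ, fun a ha b hb => by rw [hωc a ha b hb, hΦ, key]⟩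
  by_cases h4 : 4 ≤ Fintype.card F
  · have htop : ∀ M : Matrix.SpecialLinearGroup (Fin 2) F, M ∈ commutator (Matrix.SpecialLinearGroup (Fin 2) F) :=
      fun M => by rw [(sl2_quasisimple h4).1]; exact Subgroup.mem_top _
    intro u v
    by_cases hd : dd u v = 0
    · rw [hd, zero_smul, h0r]
      by_cases hu : u = 0
      · rw [hu, h0l]
      obtain ⟨v', hv'⟩ := exists_dual hu
      have hv := BlockNormal.decomp hv' v
      rw [hd, zero_smul, add_zero] at hv
      obtain ⟨g, hg⟩ := exists_to_e1 hu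
      rw [hv]
      generalize dd v v' = l
      rw [← hg, ← Matrix.mulVec_smul, hinv g (htop g)]
      have h1 := hinv (ut 1) (htop _) e1 (l • e2)
      rw [he1, ut_e1, show ((ut (1 : F)) : Matrix (Fin 2) (Fin 2) F).mulVec (l • e2) = l • e1 + l • e2 from
        funext fun i => by
          fin_cases i <;> simp [ut, he1, he2, Matrix.mulVec, dotProduct, Fin.sum_univ_two]] at h1
      rw [← he1, haddr, mul_eq_right] at h1
      exact h1
    · obtain ⟨g, hgu, hgv⟩ : ∃ g : Matrix.SpecialLinearGroup (Fin 2) F,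
          (g : Matrix (Fin 2) (Fin 2) F).mulVec e1 = u ∧
          (g : Matrix (Fin 2) (Fin 2) F).mulVec (dd u v • e2) = v := by
        refine ⟨⟨!![u 0, v 0 / dd u v; u 1, v 1 / dd u v], ?_⟩, funext fun i => ?_, funext fun i => ?_⟩
        · rw [Matrix.det_fin_two]
          simp only [Matrix.of_apply, Matrix.cons_val', Matrix.cons_val_zero, Matrix.cons_val_one,
            Matrix.cons_val_fin_one, Matrix.empty_val']
          field_simp
          rw [dd]; ring
        · fin_cases i <;> simp [he1, Matrix.mulVec, dotProduct, Fin.sum_univ_two]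
        · fin_cases i <;> simp [he2, Matrix.mulVec, dotProduct, Fin.sum_univ_two, hd]
      have h1 := hinv g (htop g) e1 (dd u v • e2)
      rwa [hgu, hgv] at h1
  · have hq3 : Fintype.card F = p := by omega
    have hnat : ∀ (k : ℕ) u v, ω ((k : F) • u) v = ω u v ^ k := fun k => by
      induction k with
      | zero => intro u v; rw [Nat.cast_zero, zero_smul, h0l, pow_zero]
      | succ k ih => intro u v; rw [Nat.cast_succ, add_smul, one_smul, haddl, ih, pow_succ]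
    have hnat' : ∀ (k : ℕ) u v, ω u ((k : F) • v) = ω u v ^ k := fun k u v => by
      rw [hsw _ u, hnat, ← inv_pow, ← hsw]
    intro u v
    obtain ⟨a, ha⟩ := exists_natCast hq3 (u 0)
    obtain ⟨b, hb⟩ := exists_natCast hq3 (u 1)
    obtain ⟨c, hc⟩ := exists_natCast hq3 (v 0)
    obtain ⟨d, hd⟩ := exists_natCast hq3 (v 1)
    have hu : u = (a : F) • e1 + (b : F) • e2 := funext fun i => by fin_cases i <;> simp [he1, he2, ha, hb]
    have hv : v = (c : F) • e1 + (d : F) • e2 := funext fun i => by fin_cases i <;> simp [he1, he2, hc, hd]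
    have hdd : dd u v = ((a * d : ℕ) : F) - ((b * c : ℕ) : F) := by
      rw [dd, ← ha, ← hb, ← hc, ← hd, Nat.cast_mul, Nat.cast_mul]
    rw [hdd, ← hΦ, ofAdd_sub, map_div, hΦ, hΦ, hnat', hnat', hu, hv, haddl, haddr, haddr,
      hnat, hnat, hnat, hnat, hnat', hnat', hnat', hnat', hself, hself, one_pow, one_pow, one_mul, one_pow,
      one_pow, mul_one, hsw e1 e2, inv_pow, inv_pow, ← pow_mul, ← pow_mul, div_eq_mul_inv,
      mul_comm d a, mul_comm c b]

end Cfsg.Agent.LocalEven.BlockCentral
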