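import Cfsg.Agent.Lib.LocalEven.BlockCentral.Setup

/-!
# Linearity of `B(T)` on the commutator module
-/

set_option autoImplicit false

open scoped commutatorElement

namespace Cfsg.Agent.LocalEven.BlockCentral

open Cfsg Cfsg.Agent.Fusion Cfsg.Agent.LocalEven.Block Cfsg.Agent.LocalEven.SubnBlock
open Cfsg.Agent.LocalEven.BlockNormal

variable {G : Type*} [Group G] [Finite G] {p : ℕ} [hp : Fact p.Prime] {T : Sylow p G} {E : Subgroup G}
  {F : Type} [Field F] [Fintype F]

namespace Ctx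

variable (h : Ctx p T E F)
include h

/-- Members of largest elementary abelian subgroups act linearly. -/
theorem max_linear {A : Subgroup G}
    (hA : A ∈ maxIn (fun A : Subgroup G => IsElementaryAbelian p A) (T : Subgroup G))
    (hAN : A ≤ Subgroup.normalizer (E : Set G)) {x : G}
    (hx : x ∈ mov p E) (hxne : x ≠ 1) (hfix : ∀ a ∈ A, a * x * a⁻¹ = x) :
    ∀ a ∈ A, h.D.S1.IsSemi a id := by
  classical
  set S := h.D.S1 with hSdef
  have hq : 3 ≤ Fintype.card F := h.D.three_le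
  obtain ⟨n, hn⟩ := h.D.card
  have hAU : A ≤ Subgroup.normalizer ((mov p E) : Set G) := normalizer_mov hAN
  have hAC : A ≤ Subgroup.normalizer (Subgroup.centralizer (E : Set G) : Set G) := hAN.trans cent_norm
  have hAc : ∀ a ∈ A, ∀ b ∈ A, a * b = b * a := fun a ha b hb => Local.elemAb_commute hA.2.1 ha hb
  choose σ hσ using fun a : ↥A => S.exists_semi hq (hAN a.2) (hAU a.2) (hAC a.2)
  have hne : S.c x ≠ 0 := fun h' => hxne (by
    have h2 : x ∈ mov p E ⊓ Subgroup.centralizer (E : Set G) := ⟨hx, (S.c_zero x hx).1 h'⟩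
    rwa [h.mov_inf_cent, Subgroup.mem_bot] at h2)
  let Ψ : ↥A →* (F ≃+* F) :=
    { toFun := σ
      map_one' := RingEquiv.ext fun l => S.semi_unique (one_mem _) (one_mem _) (hσ 1) S.semi_one l
      map_mul' := fun a b => RingEquiv.ext fun l =>
        S.semi_unique (hAU (a * b).2) (hAC (a * b).2) (hσ (a * b)) (S.semi_mul (hAU b.2) (hσ a) (hσ b)) l }
  by_contra hnl
  push Not at hnl
  obtain ⟨a₁, ha₁, hnl⟩ := hnl
  obtain ⟨z, hz⟩ : ∃ z, σ ⟨a₁, ha₁⟩ z ≠ z := by
    by_contra hc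
    push Not at hc
    exact hnl fun u hu y hy l e => by rw [hσ ⟨a₁, ha₁⟩ u hu y hy l e, hc, id_eq]
  -- the fixed field
  set K := {l : F // ∀ a : ↥A, σ a l = l} with hK
  have hKK : Nat.card K * Nat.card K ≤ Fintype.card F := by
    rw [← Nat.card_prod, ← Nat.card_eq_fintype_card]
    refine Nat.card_le_card_of_injective (fun q : K × K => (q.1 : F) + q.2 * z) fun q q' h => ?_
    by_cases h2 : (q.2 : F) = q'.2
    · simp only [h2, add_left_inj] at h
      exact Prod.ext (Subtype.ext h) (Subtype.ext h2)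
    · exfalso
      have hz' : z = ((q'.1 : F) - q.1) / ((q.2 : F) - q'.2) := by
        rw [eq_div_iff (sub_ne_zero.2 h2)]
        linear_combination h
      refine hz ?_
      rw [hz', map_div₀, map_sub, map_sub, q'.1.2, q.1.2, q.2.2, q'.2.2]
  have hquot : ∀ (m₀ m : F) (δ : ↥A → F), m₀ ≠ 0 → (∀ a, σ a m₀ * δ a = m₀) → (∀ a, σ a m * δ a = m) →
      ∀ a, σ a (m / m₀) = m / m₀ := fun m₀ m δ h0 h1 h2 a => by
    have hs0 : σ a m₀ ≠ 0 := (map_ne_zero (σ a)).2 h0
    rw [map_div₀, div_eq_div_iff hs0 h0]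
    linear_combination (σ a m₀) * h2 a - (σ a m) * h1 a
  -- the pairing
  obtain ⟨v, hv⟩ := exists_dual hne
  obtain ⟨v', hv', rfl⟩ := S.c_surj v
  set δ : ↥A → F := fun a => dd (S.c x) (S.c ((a : G) * v' * (a : G)⁻¹)) with hδ
  have hpair : ∀ a : ↥A, ∀ y ∈ (mov p E), dd (S.c x) (S.c ((a : G) * y * (a : G)⁻¹)) = σ a (dd (S.c x) (S.c y)) * δ a := by
    intro a y hy
    obtain ⟨w, hw, hd, hall⟩ := S.exists_delta (hAU a.2) (hσ a) hx hne (by rw [hfix a a.2])
    have h1 := (hall v' hv').2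
    rw [hv, map_one, mul_one] at h1
    rw [(hall y hy).2, mul_comm]
    exact congrArg _ h1.symm
  -- linear elements
  set A0 := Ψ.ker with hA0
  have hshear : ∀ s : ↥A0, ∃ t : F, ∀ y ∈ (mov p E),
      S.c ((s : G) * y * (s : G)⁻¹) = S.c y + (t * dd (S.c x) (S.c y)) • S.c x := by
    intro s
    have hlin : S.IsSemi (s : G) id := fun u hu y hy l e => by
      rw [hσ (s : ↥A) u hu y hy l e]
      have hs1 : σ (s : ↥A) = 1 := s.2
      rw [hs1]
      rfl
    obtain ⟨k, hk⟩ := (Fusion.isPGroup_elementary hA.2.1) (s : ↥A)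
    have hk' : (s : G) ^ p ^ k = 1 := congrArg Subtype.val hk
    exact S.exists_shear hn (hAU (s : ↥A).2) hlin hx hne (by rw [hfix _ (s : ↥A).2]) hk'
  choose t ht using hshear
  have hteq : ∀ (s : ↥A0), dd (S.c ((s : G) * v' * (s : G)⁻¹)) (S.c v') = t s := fun s => by
    rw [ht s v' hv', hv, mul_one]
    simp only [dd, Pi.add_apply, Pi.smul_apply, smul_eq_mul] at hv ⊢
    linear_combination (t s) * hv
  have htadd : ∀ s s' : ↥A0, t (s * s') = t s + t s' := fun s s' => by
    have h1 : S.c ((s' : G) * v' * (s' : G)⁻¹) = S.c v' + (t s') • S.c x := by rw [ht s' v' hv', hv, mul_one]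
    have h2 := ht s _ (S.conj_mem (hAU (s' : ↥A).2) hv')
    rw [← hteq (s * s')]
    push_cast
    rw [show (s : G) * s' * v' * ((s : G) * s')⁻¹ = (s : G) * ((s' : G) * v' * (s' : G)⁻¹) * (s : G)⁻¹ by group,
      h2, h1]
    simp only [dd, Pi.add_apply, Pi.smul_apply, smul_eq_mul] at hv ⊢
    linear_combination (t s' + t s * (S.c x 0 * S.c v' 1 - S.c x 1 * S.c v' 0 + 1)) * hv
  let τ : ↥A0 →* Multiplicative F :=
    MonoidHom.mk' (fun s => Multiplicative.ofAdd (t s)) fun s s' => by rw [htadd]; rfl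
  have hst : ∀ (a : ↥A) (s : ↥A0), σ a (t s) = t s * δ a := fun a s => by
    obtain ⟨w, hw, hwc⟩ := S.c_surj (t s • S.c x)
    have h1 : S.c ((s : G) * v' * (s : G)⁻¹) = S.c (v' * w) := by
      rw [ht s v' hv', hv, mul_one, S.c_mul _ hv' _ hw, hwc]
    have h2 := S.congr_conj (hAU a.2) (hAC a.2) (S.conj_mem (hAU (s : ↥A).2) hv') (mul_mem hv' hw) h1
    rw [show (a : G) * (v' * w) * (a : G)⁻¹ = ((a : G) * v' * (a : G)⁻¹) * ((a : G) * w * (a : G)⁻¹) by group,
      S.c_mul _ (S.conj_mem (hAU a.2) hv') _ (S.conj_mem (hAU a.2) hw), hσ a x hx w hw _ hwc,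
      hfix a a.2] at h2
    have h3 := ht s _ (S.conj_mem (hAU a.2) hv')
    rw [show (s : G) * ((a : G) * v' * (a : G)⁻¹) * (s : G)⁻¹ = (a : G) * ((s : G) * v' * (s : G)⁻¹) * (a : G)⁻¹ by
      calc (s : G) * ((a : G) * v' * (a : G)⁻¹) * (s : G)⁻¹ = ((s : G) * a) * v' * ((s : G) * a)⁻¹ := by group
        _ = ((a : G) * s) * v' * ((a : G) * s)⁻¹ := by rw [hAc _ (s : ↥A).2 _ a.2]
        _ = _ := by group, h2] at h3
    exact smul_left_injective F hne (add_left_cancel h3)
  -- fixed points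
  set Fx := (mov p E) ⊓ Subgroup.centralizer (A : Set G) with hFx
  let ψ : ↥Fx →* Multiplicative (Fin 2 → F) := MonoidHom.mk' (fun y => Multiplicative.ofAdd (S.c y))
    fun y y' => by
      show Multiplicative.ofAdd (S.c ((y : G) * y')) = _
      rw [S.c_mul _ (Subgroup.mem_inf.1 y.2).1 _ (Subgroup.mem_inf.1 y'.2).1]
      rfl
  have hfixd : ∀ (y : ↥Fx) (a : ↥A), S.c ((a : G) * y * (a : G)⁻¹) = S.c y := fun y a => by
    rw [Subgroup.mem_centralizer_iff.1 (Subgroup.mem_inf.1 y.2).2 _ a.2, mul_inv_cancel_right]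
  have hm : ∀ (y : ↥Fx) (a : ↥A), σ a (dd (S.c x) (S.c y)) * δ a = dd (S.c x) (S.c y) := fun y a => by
    rw [← hpair a y (Subgroup.mem_inf.1 y.2).1, hfixd]
  -- a fixed element on the line
  have hline : ∀ w ∈ (mov p E), dd (S.c x) (S.c w) = 0 → (∀ a : ↥A, S.c ((a : G) * w * (a : G)⁻¹) = S.c w) →
      ∀ a, σ a (dd (S.c w) (S.c v')) = dd (S.c w) (S.c v') := fun w hw h0 hf a => by
    have h1 := BlockNormal.decomp hv (S.c w)
    rw [h0, zero_smul, add_zero] at h1
    have h2 := hσ a x hx w hw _ h1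
    rw [hfix a a.2, hf a] at h2
    exact (smul_left_injective F hne (h1.symm.trans h2)).symm
  have hcnt : Nat.card τ.range * Nat.card ψ.range ≤ Fintype.card F := by
    refine le_trans ?_ hKK
    by_cases hτ : ∃ s₀ : ↥A0, t s₀ ≠ 0
    · obtain ⟨s₀, hs₀⟩ := hτ
      have hm0 : ∀ y : ↥Fx, dd (S.c x) (S.c y) = 0 := fun y => by
        have h1 := ht s₀ y (Subgroup.mem_inf.1 y.2).1
        rw [hfixd y (s₀ : ↥A), left_eq_add] at h1
        exact ((mul_eq_zero.1 ((smul_eq_zero.1 h1).resolve_right hne)).resolve_left hs₀)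
      refine Nat.mul_le_mul (Nat.card_le_card_of_injective (fun r : τ.range =>
        (⟨Multiplicative.toAdd (r : Multiplicative F) / t s₀, fun a => ?_⟩ : K)) ?_)
        (Nat.card_le_card_of_injective (fun r : ψ.range =>
          (⟨dd (Multiplicative.toAdd (r : Multiplicative (Fin 2 → F))) (S.c v'), fun a => ?_⟩ : K)) ?_)
      · obtain ⟨_, s, rfl⟩ := r
        show σ a (t s / t s₀) = _
        rw [map_div₀, hst, hst, mul_div_mul_right _ _ fun h => hs₀ ((map_eq_zero (σ a)).1 (by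
          rw [hst, h, mul_zero]))]
        rfl
      · intro r r' h
        have h1 := (div_left_inj' hs₀).1 (congrArg Subtype.val h)
        exact Subtype.ext (Multiplicative.toAdd.injective h1)
      · obtain ⟨_, y, rfl⟩ := r
        exact hline y (Subgroup.mem_inf.1 y.2).1 (hm0 y) (hfixd y) a
      · rintro ⟨_, y, rfl⟩ ⟨_, y', rfl⟩ h
        have h1 : dd (S.c y) (S.c v') = dd (S.c y') (S.c v') := congrArg Subtype.val h
        refine Subtype.ext (congrArg Multiplicative.ofAdd ?_)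
        rw [BlockNormal.decomp hv (S.c y), BlockNormal.decomp hv (S.c y'), hm0, hm0, h1]
    · push Not at hτ
      have hτ1 : Nat.card τ.range = 1 := by
        rw [Subgroup.card_eq_one, MonoidHom.range_eq_bot_iff]
        exact MonoidHom.ext fun s => congrArg Multiplicative.ofAdd (hτ s)
      rw [hτ1, one_mul, ← Nat.card_prod]
      by_cases hm0 : ∀ y : ↥Fx, dd (S.c x) (S.c y) = 0
      · refine Nat.card_le_card_of_injective (fun r : ψ.range => ((⟨0, fun a => map_zero _⟩,
          ⟨dd (Multiplicative.toAdd (r : Multiplicative (Fin 2 → F))) (S.c v'), fun a => ?_⟩) : K × K)) ?_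
        · obtain ⟨_, y, rfl⟩ := r
          exact hline y (Subgroup.mem_inf.1 y.2).1 (hm0 y) (hfixd y) a
        · rintro ⟨_, y, rfl⟩ ⟨_, y', rfl⟩ h
          have h1 : dd (S.c y) (S.c v') = dd (S.c y') (S.c v') := congrArg (fun q : K × K => (q.2 : F)) h
          refine Subtype.ext (congrArg Multiplicative.ofAdd ?_)
          rw [BlockNormal.decomp hv (S.c y), BlockNormal.decomp hv (S.c y'), hm0, hm0, h1]
      push Not at hm0
      obtain ⟨y₀, hy₀⟩ := hm0
      let r₁ : ψ.range → F := fun r =>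
        dd (S.c x) (Multiplicative.toAdd (r : Multiplicative (Fin 2 → F))) / dd (S.c x) (S.c y₀)
      let r₂ : ψ.range → F := fun r =>
        dd (Multiplicative.toAdd (r : Multiplicative (Fin 2 → F)) - r₁ r • S.c y₀) (S.c v')
      have hr₁ : ∀ r a, σ a (r₁ r) = r₁ r := by
        rintro ⟨_, y, rfl⟩ a
        exact hquot _ _ δ hy₀ (fun b => hm y₀ b) (fun b => hm y b) a
      have hr₂ : ∀ r a, σ a (r₂ r) = r₂ r := by
        rintro ⟨_, y, rfl⟩ a
        set r : ψ.range := ⟨ψ y, y, rfl⟩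
        have hyU := (Subgroup.mem_inf.1 y.2).1
        obtain ⟨w, hw, hwc⟩ := S.c_surj (r₁ r • S.c y₀)
        have hcw : S.c ((y : G) * w⁻¹) = S.c y - r₁ r • S.c y₀ := by
          rw [S.c_mul _ hyU _ (inv_mem hw), S.c_inv hw, hwc, sub_eq_add_neg]
        have h0 : dd (S.c x) (S.c ((y : G) * w⁻¹)) = 0 := by
          rw [hcw, sub_eq_add_neg, dd_add, ← neg_smul, dd_smul]
          show dd (S.c x) (S.c y) + -(dd (S.c x) (S.c y) / dd (S.c x) (S.c y₀)) * dd (S.c x) (S.c y₀) = 0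
          field_simp
          ring
        have hf : ∀ b : ↥A, S.c ((b : G) * ((y : G) * w⁻¹) * (b : G)⁻¹) = S.c ((y : G) * w⁻¹) := fun b => by
          rw [show (b : G) * ((y : G) * w⁻¹) * (b : G)⁻¹ = ((b : G) * y * (b : G)⁻¹) * ((b : G) * w * (b : G)⁻¹)⁻¹ by
            group, S.c_mul _ (S.conj_mem (hAU b.2) hyU) _ (inv_mem (S.conj_mem (hAU b.2) hw)),
            S.c_inv (S.conj_mem (hAU b.2) hw), hfixd, hσ b _ (Subgroup.mem_inf.1 y₀.2).1 w hw _ hwc, hfixd,
            hr₁, hcw, sub_eq_add_neg]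
        have h := hline _ (mul_mem hyU (inv_mem hw)) h0 hf a
        rw [hcw] at h
        exact h
      refine Nat.card_le_card_of_injective
        (fun r : ψ.range => ((⟨r₁ r, hr₁ r⟩, ⟨r₂ r, hr₂ r⟩) : K × K)) fun r r' h => ?_
      have h1 : r₁ r = r₁ r' := congrArg (fun q : K × K => (q.1 : F)) h
      have h2 : r₂ r = r₂ r' := congrArg (fun q : K × K => (q.2 : F)) h
      have key : ∀ r : ψ.range, Multiplicative.toAdd (r : Multiplicative (Fin 2 → F)) =
          r₂ r • S.c x + r₁ r • S.c y₀ := fun r => by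
        have h3 := BlockNormal.decomp hv (Multiplicative.toAdd (r : Multiplicative (Fin 2 → F)) - r₁ r • S.c y₀)
        have h4 : dd (S.c x) (Multiplicative.toAdd (r : Multiplicative (Fin 2 → F)) - r₁ r • S.c y₀) = 0 := by
          rw [sub_eq_add_neg, dd_add, ← neg_smul, dd_smul]
          show _ + -(dd (S.c x) _ / dd (S.c x) (S.c y₀)) * dd (S.c x) (S.c y₀) = 0
          field_simp
          ring
        rw [h4, zero_smul, add_zero, sub_eq_iff_eq_add] at h3
        exact h3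
      exact Subtype.ext (Multiplicative.toAdd.injective (by rw [key r, key r', h1, h2]))
  -- the number of automorphisms
  have hP : Nat.card Ψ.range < Fintype.card F := by
    obtain ⟨g, hg⟩ := IsCyclic.exists_generator (α := Fˣ)
    haveI : Finite ↥Ψ.range := Finite.of_surjective _ Ψ.rangeRestrict_surjective
    haveI := Fintype.ofFinite ↥Ψ.range
    rw [Nat.card_eq_fintype_card]
    refine Fintype.card_lt_of_injective_of_notMem (fun r : Ψ.range => (r : F ≃+* F) (g : F)) ?_ (b := 0) ?_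
    · intro r r' h
      refine Subtype.ext (RingEquiv.ext fun l => ?_)
      by_cases hl : l = 0
      · subst hl; simp
      obtain ⟨j, hj⟩ := hg (Units.mk0 l hl)
      have hj' : (g : F) ^ j = l := by
        simpa using congrArg Units.val hj
      rw [← hj', map_zpow₀, map_zpow₀]
      exact congrArg (fun u => u ^ j) h
    · rintro ⟨r, hr⟩
      exact g.ne_zero ((map_eq_zero (r : F ≃+* F)).1 hr)
  -- the count
  set B := A ⊓ Subgroup.centralizer ((mov p E) : Set G) with hB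
  set Z0 := (mov p E) ⊓ Subgroup.centralizer (E : Set G) with hZ0
  have hineq := max_ineq T hA (B := B) (W := mov p E) (U := mov p E) inf_le_left (mov_le E)
    (Subgroup.le_centralizer_iff.1 inf_le_right) le_rfl
  rw [← hFx] at hineq
  have hτker : Nat.card τ.ker ≤ Nat.card B := by
    refine Nat.card_le_card_of_injective (fun s : τ.ker => (⟨((s : ↥A0) : G), ?_⟩ : ↥B)) fun s s' h => ?_
    · refine Subgroup.mem_inf.2 ⟨((s : ↥A0) : ↥A).2, ?_⟩
      refine Subgroup.mem_centralizer_iff.2 fun y hy => ?_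
      refine (mul_inv_eq_iff_eq_mul.1 (inv_mul_eq_one.1 (?_ : y⁻¹ * (((s : ↥A0) : G) * y * ((s : ↥A0) : G)⁻¹) = 1)).symm).symm
      rw [← Subgroup.mem_bot, ← h.mov_inf_cent]
      refine Subgroup.mem_inf.2 ⟨mul_mem (inv_mem hy) (S.conj_mem (hAU ((s : ↥A0) : ↥A).2) hy), ?_⟩
      have ht0 : t (s : ↥A0) = 0 := congrArg Multiplicative.toAdd s.2
      have h1 := ht s y hy
      rw [ht0, zero_mul, zero_smul, add_zero] at h1
      exact (S.eq_iff hy (S.conj_mem (hAU ((s : ↥A0) : ↥A).2) hy)).1 h1.symm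
    · exact Subtype.ext (Subtype.ext (Subtype.ext (congrArg Subtype.val h :)))
  have hψker : Nat.card ψ.ker ≤ Nat.card Z0 := by
    refine Nat.card_le_card_of_injective (fun y : ψ.ker => (⟨((y : ↥Fx) : G), ?_⟩ : ↥Z0)) fun y y' h => ?_
    · exact Subgroup.mem_inf.2 ⟨(Subgroup.mem_inf.1 (y : ↥Fx).2).1,
        (S.c_zero _ (Subgroup.mem_inf.1 (y : ↥Fx).2).1).1 (congrArg Multiplicative.toAdd y.2)⟩
    · exact Subtype.ext (Subtype.ext (congrArg Subtype.val h :))
  let χ : ↥(mov p E) →* Multiplicative (Fin 2 → F) := MonoidHom.mk' (fun y => Multiplicative.ofAdd (S.c y))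
    fun y y' => by
      show Multiplicative.ofAdd (S.c ((y : G) * y')) = _
      rw [S.c_mul _ y.2 _ y'.2]
      rfl
  have hUcard : Nat.card (mov p E) = Nat.card Z0 * Fintype.card F ^ 2 := by
    obtain ⟨-, hc⟩ := section_card (U := mov p E) (A := Z0) inf_le_left χ fun y => by
      show Multiplicative.ofAdd (S.c y) = 1 ↔ _
      rw [ofAdd_eq_one, S.c_zero _ y.2]
      exact ⟨fun h => Subgroup.mem_inf.2 ⟨y.2, h⟩, fun h => h.2⟩
    rw [hc, MonoidHom.range_eq_top.2 (fun v => ?_), Subgroup.card_top, Nat.card_congr Multiplicative.toAdd,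
      Nat.card_fun, Nat.card_fin, Nat.card_eq_fintype_card (α := F)]
    obtain ⟨y, hy, hyc⟩ := S.c_surj (Multiplicative.toAdd v)
    exact ⟨⟨y, hy⟩, congrArg Multiplicative.ofAdd hyc⟩
  have hAcard : Nat.card A = Nat.card τ.ker * Nat.card τ.range * Nat.card Ψ.range := by
    rw [← Subgroup.index_ker τ, Subgroup.card_mul_index, ← Subgroup.index_ker Ψ, Subgroup.card_mul_index]
  have hFcard : Nat.card Fx = Nat.card ψ.ker * Nat.card ψ.range := by
    rw [← Subgroup.index_ker ψ, Subgroup.card_mul_index]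
  set q := Fintype.card F with hqd
  have hq0 : 0 < q := Fintype.card_pos
  have key : (Nat.card B * Nat.card Z0) * q ^ 2 ≤ (Nat.card B * Nat.card Z0) * (Nat.card Ψ.range * q) :=
    calc (Nat.card B * Nat.card Z0) * q ^ 2 = Nat.card B * Nat.card (mov p E) := by rw [hUcard, mul_assoc]
      _ ≤ Nat.card A * Nat.card Fx := hineq
      _ = (Nat.card τ.ker * Nat.card ψ.ker) * (Nat.card Ψ.range * (Nat.card τ.range * Nat.card ψ.range)) := by
          rw [hAcard, hFcard]; ring
      _ ≤ _ := Nat.mul_le_mul (Nat.mul_le_mul hτker hψker) (Nat.mul_le_mul_left _ hcnt)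
  have key' := Nat.le_of_mul_le_mul_left key (Nat.mul_pos Nat.card_pos Nat.card_pos)
  rw [pow_two] at key'
  exact absurd (Nat.le_of_mul_le_mul_right key' hq0) (not_le.2 hP)

/-- Some element of `B(T)` moves `[W, E]`. -/
theorem moving : ∃ b ∈ baumannSubgroupOf p (T : Subgroup G), b ∉ cM p E := by
  obtain ⟨-, -, hJ⟩ := S2984.result h.hG T E h.hT
  by_contra hc
  push Not at hc
  refine hJ (Subgroup.commutator_eq_bot_iff_le_centralizer.2 ?_)
  rw [← Fusion.jElem_eq, Subgroup.le_centralizer_iff, h.pre.movEq]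
  intro j hj
  exact hc j (jElem_le_baumann _ hj)

theorem mov_eq_of_c {a b : G} (ha : a ∈ mov p E) (hb : b ∈ mov p E) (hc : h.D.S1.c a = h.D.S1.c b) :
    a = b := by
  have h1 : a⁻¹ * b ∈ mov p E ⊓ Subgroup.centralizer (E : Set G) :=
    Subgroup.mem_inf.2 ⟨mul_mem (inv_mem ha) hb, (h.D.S1.eq_iff ha hb).1 hc⟩
  rwa [h.mov_inf_cent, Subgroup.mem_bot, inv_mul_eq_one] at h1

/-- `B(T)` is quadratic on `[W, E]`. -/
theorem baumann_quad {b : G} (hb : b ∈ baumannSubgroupOf p (T : Subgroup G)) :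
    ∀ y ∈ mov p E, ∀ i j : ℕ, ⁅⁅y, b ^ i⁆, b ^ j⁆ = 1 := by
  set B := baumannSubgroupOf p (T : Subgroup G) with hBd
  set S := h.D.S1 with hSd
  have hBN := baumann_norm h.pre
  have hBM : B ≤ Subgroup.normalizer (mov p E : Set G) := normalizer_mov hBN
  have hne : mov p E ≠ ⊥ := fun h0 => h.pre.ne (h0.le.trans bot_le)
  obtain ⟨x, hx, hx1, hxfix⟩ := fixed_mod (T.isPGroup'.to_le (baumann_le _) : IsPGroup p ↥B)
    ((isPGroup_omegaOneCenter _).to_le h.pre.movW) (bot_lt_iff_ne_bot.2 hne) hBM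
  have hx1 : x ≠ 1 := fun h0 => hx1 (h0 ▸ one_mem _)
  have hfixB : ∀ g ∈ B, g * x * g⁻¹ = x := fun g hg => by
    have h1 := hxfix g hg
    rw [Subgroup.mem_bot, commutatorElement_eq_one_iff_mul_comm] at h1
    exact mul_inv_eq_iff_eq_mul.2 h1
  have hline : ∀ A ∈ maxIn (fun A : Subgroup G => IsElementaryAbelian p A) (T : Subgroup G),
      ∀ m ∈ mov p E, ∀ l : F, S.c m = l • S.c x → ∀ a ∈ A, a * m = m * a := by
    intro A hA m hm l hl a ha
    have hAB : A ≤ B := (le_sSup hA).trans (jElem_le_baumann _)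
    have hlin := h.max_linear hA (hAB.trans hBN) hx hx1 (fun a ha => hfixB a (hAB ha)) a ha x hx m hm l hl
    rw [hfixB a (hAB ha), id_eq, ← hl] at hlin
    exact mul_inv_eq_iff_eq_mul.1 (h.mov_eq_of_c (S.conj_mem (hBM (hAB ha)) hm) hm hlin)
  obtain ⟨A, hA⟩ := (Fusion.replFamily_elementary p).maxIn_nonempty (T : Subgroup G)
  have hb' := hb
  rw [hBd, baumann_eq] at hb'
  have hbl : ∀ m ∈ mov p E, ∀ l : F, S.c m = l • S.c x → b * m * b⁻¹ = m := fun m hm l hl => by
    have hmp : m ^ p = 1 := (omegaOneCenter_props (mov_le E hm)).2.2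
    have hmA : m ∈ A := Fusion.mem_of_maxIn hA (vSub_le_sylow T (mov_le E hm))
      (Fusion.isElementaryAbelian_closure_insert hA.2.1 (fun a ha => (hline A hA m hm l hl a ha).symm) hmp)
    have hmz : m ∈ omegaOne p (zElem p (T : Subgroup G)) := by
      refine Subgroup.subset_closure ⟨Subgroup.mem_inf.2 ⟨le_sSup hA hmA, ?_⟩, hmp⟩
      refine Subgroup.mem_centralizer_iff.2 fun j hj => ?_
      have hle : jElem p (T : Subgroup G) ≤ Subgroup.centralizer {m} := sSup_le fun A hA a ha =>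
        Subgroup.mem_centralizer_singleton_iff.2 (hline A hA m hm l hl a ha)
      exact Subgroup.mem_centralizer_singleton_iff.1 (hle hj)
    exact mul_inv_eq_iff_eq_mul.2
      (Subgroup.mem_centralizer_iff.1 (Subgroup.mem_inf.1 hb').2 m hmz).symm
  obtain ⟨σ, hσ⟩ := S.exists_semi h.D.three_le (hBN hb) (hBM hb) (cent_norm (hBN hb))
  have hcx : S.c x ≠ 0 := fun h0 => hx1 (h.mov_eq_of_c hx (one_mem _) (h0.trans S.c_one.symm))
  have hlin : S.IsSemi b id := fun u hu y hy l e => by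
    rw [hσ u hu y hy l e]
    obtain ⟨m, hm, hmc⟩ := S.c_surj (l • S.c x)
    have h1 := hσ x hx m hm l hmc
    rw [hbl m hm l hmc, hfixB b hb, hmc] at h1
    rw [id_eq, ← smul_left_injective F hcx h1]
  obtain ⟨n, hn⟩ := h.D.card
  obtain ⟨k, hk⟩ := T.isPGroup' ⟨b, baumann_le _ hb⟩
  obtain ⟨t, ht⟩ := S.exists_shear hn (hBM hb) hlin hx hcx (by rw [hfixB b hb]) (congrArg Subtype.val hk)
  intro y hy i j
  rw [← Subgroup.mem_bot, ← h.mov_inf_cent]
  exact Subgroup.mem_inf.2 ⟨(comm_mem (comm_mem hy (pow_mem (hBM hb) i)).1 (pow_mem (hBM hb) j)).1,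
    S.shear_quadratic (hBM hb) ht y hy i j⟩

/-- `B(T)` is linear on `Q / W`. -/
theorem baumann_linear2 {b : G} (hb : b ∈ baumannSubgroupOf p (T : Subgroup G)) : h.D.S2.IsSemi b id :=
  linear_of_quadratic h.pre h.D hb (baumann_norm h.pre hb) (h.baumann_quad hb)

end Ctx

end Cfsg.Agent.LocalEven.BlockCentral
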