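import Cfsg.Agent.Lib.LocalEven.BlockCentral.Twist
import Cfsg.Agent.Lib.Char.ZStar
import Cfsg.Agent.Lib.Solv.SetMul

/-!
# The centraliser of the commutator module normalises the block
-/

set_option autoImplicit false

open scoped commutatorElement Pointwise

namespace Cfsg.Agent.LocalEven.BlockCentral

open Cfsg Cfsg.Agent.Fusion Cfsg.Agent.LocalEven.Block Cfsg.Agent.LocalEven.SubnBlock
open Cfsg.Agent.LocalEven.BlockNormal

variable {G : Type*} [Group G] [Finite G] {p : ℕ} [hp : Fact p.Prime] {T : Sylow p G} {E : Subgroup G}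
  {F : Type} [Field F] [Fintype F]

/-- The odd core of a subgroup, in the ambient group. -/
abbrev oddOf (C : Subgroup G) : Subgroup G := (pPrimeCore 2 ↥C).map C.subtype

theorem oddOf_le (C : Subgroup G) : oddOf C ≤ C := Subgroup.map_subtype_le _

theorem oddOf_card (C : Subgroup G) : (Nat.card ↥(oddOf C)).Coprime 2 := by
  rw [Subgroup.card_map_of_injective C.subtype_injective]
  exact Fusion.card_pPrimeCore_coprime 2 ↥C

theorem le_oddOf {C N : Subgroup G} (hNC : N ≤ C) (hn : C ≤ Subgroup.normalizer (N : Set G))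
    (hN : (Nat.card ↥N).Coprime 2) : N ≤ oddOf C := by
  haveI : (N.subgroupOf C).Normal := (Subgroup.normal_subgroupOf_iff_le_normalizer hNC).2 hn
  intro x hx
  refine ⟨⟨x, hNC hx⟩, Fusion.le_pPrimeCore (N := N.subgroupOf C) ?_ hx, rfl⟩
  rwa [Nat.card_congr (Subgroup.subgroupOfEquivOfLe hNC).toEquiv]

theorem oddOf_norm (C : Subgroup G) : C ≤ Subgroup.normalizer (oddOf C : Set G) :=
  SubnBlock.le_normalizer_of_conj fun g hg x hx => by
    haveI : (pPrimeCore 2 ↥C).Normal := Solv.pPrimeCore_normal 2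
    obtain ⟨y, hy, rfl⟩ := hx
    exact ⟨⟨g, hg⟩ * y * ⟨g, hg⟩⁻¹, Subgroup.Normal.conj_mem inferInstance y hy _, rfl⟩

theorem oddOf_normalizer (C : Subgroup G) :
    Subgroup.normalizer (C : Set G) ≤ Subgroup.normalizer (oddOf C : Set G) := fun g hg => by
  refine Fusion.mem_normalizer_of_cj_le (le_oddOf ?_ ?_ ?_)
  · exact (Fusion.cj_mono (oddOf_le C) g).trans (Fusion.cj_eq_self hg).le
  · intro c hc
    obtain ⟨d, hd, rfl⟩ : ∃ d ∈ C, g * d * g⁻¹ = c :=
      ⟨g⁻¹ * c * g, (Subgroup.mem_normalizer_iff''.1 hg c).1 hc, by group⟩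
    rw [Fusion.mem_normalizer_iff_cj, Fusion.cj_cj, show g * d * g⁻¹ * g = g * d by group, ← Fusion.cj_cj,
      Fusion.cj_eq_self (oddOf_norm C hd)]
  · rw [Subgroup.card_map_of_injective (f := (MulAut.conj g).toMonoidHom) (MulAut.conj g).injective]
    exact oddOf_card C

namespace Ctx

variable (h : Ctx p T E F)
include h

theorem e_norm_cM : h.e ∈ Subgroup.normalizer (cM p E : Set G) := norm_cM Subgroup.le_normalizer h.e_mem

/-- `e` is isolated over the centraliser. -/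
theorem isolated {c : G} (hc : c ∈ cM p E) (hcomm : h.e * (c * h.e * c⁻¹) = c * h.e * c⁻¹ * h.e) :
    c * h.e * c⁻¹ = h.e := by
  set f := c * h.e * c⁻¹ with hf
  set i := h.e * f with hi
  have hiC : i ∈ cM p E := by
    rw [hi, hf, show h.e * (c * h.e * c⁻¹) = (h.e * c * h.e⁻¹) * (h.e * h.e) * c⁻¹ by group, h.e_sq, mul_one]
    exact mul_mem ((Subgroup.mem_normalizer_iff.1 h.e_norm_cM c).1 hc) (inv_mem hc)
  have hff : f * f = 1 := by
    rw [hf, show c * h.e * c⁻¹ * (c * h.e * c⁻¹) = c * (h.e * h.e) * c⁻¹ by group, h.e_sq, mul_one,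
      mul_inv_cancel]
  have cef : Commute h.e f := hcomm
  have cei : Commute h.e i := (Commute.refl h.e).mul_right cef
  have hii : i * i = 1 := by
    rw [hi, show h.e * f * (h.e * f) = h.e * (f * h.e) * f by group, ← cef.eq,
      show h.e * (h.e * f) * f = (h.e * h.e) * (f * f) by group, h.e_sq, hff, one_mul]
  have hii' : i⁻¹ = i := inv_eq_of_mul_eq_one_right hii
  have hco : (orderOf i).Coprime p := Nat.Coprime.coprime_dvd_left
    (orderOf_dvd_of_pow_eq_one (n := 2) (by rw [pow_two, hii])) (by rw [h.D.three]; norm_num)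
  have hiY := h.mem_cY_of_comm hiC cei.eq
  have hiQ : ∀ q ∈ pCoreOf p E, i * q = q * i := fun q hq =>
    (Subgroup.mem_centralizer_iff.1 (h.cY_cent hiY hco) q hq).symm
  have hfe : f = h.e * i := by rw [hi, ← mul_assoc, h.e_sq, one_mul]
  have hb : ∀ y : G, y ∈ Subgroup.normalizer ((⊥ : Subgroup G) : Set G) := fun y =>
    Subgroup.mem_normalizer_iff.2 fun z => by simp
  -- the fixed points of `f` on `R` are fixed by `e` and `i`
  have key : ∀ r ∈ cR p E, f * r = r * f → h.e * r = r * h.e ∧ i * r = r * i := by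
    intro r hr hfr
    obtain ⟨r1, hr1, hr1e, q, hq, rfl⟩ := h.decomp hr
    have heq : h.e * q * h.e⁻¹ ∈ pCoreOf p E :=
      (Subgroup.mem_normalizer_iff.1 (h.D.S2.norm h.e_mem) q).1 hq
    have h1 : i * r1 * i⁻¹ * (h.e * q * h.e⁻¹) = r1 * q := by
      have e1 : f * (r1 * q) * f⁻¹ = r1 * q := by rw [hfr, mul_inv_cancel_right]
      rw [hfe, cei.eq, show i * h.e * (r1 * q) * (i * h.e)⁻¹ =
        (i * (h.e * r1 * h.e⁻¹) * i⁻¹) * (i * (h.e * q * h.e⁻¹) * i⁻¹) by group,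
        hr1e, mul_inv_cancel_right, hiQ _ heq, mul_inv_cancel_right] at e1
      exact e1
    have hdQ : ⁅i, r1⁆ ∈ pCoreOf p E := by
      rw [show ⁅i, r1⁆ = r1 * (q * (h.e * q * h.e⁻¹)⁻¹) * r1⁻¹ by
        rw [commutatorElement_def, show i * r1 * i⁻¹ = r1 * q * (h.e * q * h.e⁻¹)⁻¹ by
          rw [← h1, mul_inv_cancel_right]]
        group]
      exact (Subgroup.mem_normalizer_iff.1 (norm_Q (cR_norm h.pre) hr1) _).1 (mul_mem hq (inv_mem heq))
    have hde : h.e * ⁅i, r1⁆ = ⁅i, r1⁆ * h.e := by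
      have c2 : Commute h.e r1 := hr1e
      rw [commutatorElement_def]
      exact (((cei.mul_right c2).mul_right cei.inv_right).mul_right c2.inv_right).eq
    have hdZ := h.Q_fixed hdQ hde
    have h2 := mem_of_twice (P := ⊥) h.Q_isPGroup hco (hb _) hdQ (hb _) (by
      rw [Subgroup.mem_bot, commutatorElement_eq_one_iff_mul_comm]
      exact hiQ _ hdQ)
    rw [Subgroup.mem_bot, commutatorElement_eq_one_iff_mul_comm] at h2
    rw [h2, mul_inv_cancel_right, mul_right_inj, mul_inv_eq_iff_eq_mul] at h1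
    have c2 : Commute h.e r1 := hr1e
    refine ⟨(c2.mul_right h1).eq, ?_⟩
    rw [← mul_assoc, h2, mul_assoc, hiQ q hq, mul_assoc]
  set Ce := cR p E ⊓ Subgroup.centralizer {h.e} with hCe
  set Cf := cR p E ⊓ Subgroup.centralizer {f} with hCf
  have hle : Cf ≤ Ce := fun r hr => Subgroup.mem_inf.2 ⟨hr.1, Subgroup.mem_centralizer_singleton_iff.2
    (key r hr.1 (Subgroup.mem_centralizer_singleton_iff.1 hr.2).symm).1.symm⟩
  have heq : Cf = Ce := by
    refine Subgroup.eq_of_le_of_card_ge hle ?_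
    have hmem : ∀ r : ↥Ce, c * r * c⁻¹ ∈ Cf := fun r => by
      refine Subgroup.mem_inf.2 ⟨(Subgroup.mem_normalizer_iff.1 (cM_norm_cR hc) r).1 r.2.1,
        Subgroup.mem_centralizer_singleton_iff.2 ?_⟩
      rw [hf, show c * (r : G) * c⁻¹ * (c * h.e * c⁻¹) = c * ((r : G) * h.e) * c⁻¹ by group,
        Subgroup.mem_centralizer_singleton_iff.1 r.2.2]
      group
    exact Nat.card_le_card_of_injective (fun r : ↥Ce => (⟨c * r * c⁻¹, hmem r⟩ : ↥Cf)) fun r r' hr =>
      Subtype.ext (mul_left_cancel (mul_right_cancel (congrArg Subtype.val hr)))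
  have hiR : i ∈ Subgroup.centralizer (cR p E : Set G) := Subgroup.mem_centralizer_iff.2 fun r hr => by
    obtain ⟨r1, hr1, hr1e, q, hq, rfl⟩ := h.decomp hr
    have h3 : r1 ∈ Cf := heq ▸ Subgroup.mem_inf.2 ⟨hr1, Subgroup.mem_centralizer_singleton_iff.2 hr1e.symm⟩
    have c1 : Commute i r1 := (key r1 hr1 (Subgroup.mem_centralizer_singleton_iff.1 h3.2).symm).2
    exact (c1.mul_right (hiQ q hq)).eq.symm
  have hi1 := eq_one_of_cR h.hG h.hT h.pre hiR hco
  rw [hfe, hi1, mul_one]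

/-- `[e, C]` lies in the odd core. -/
theorem comm_mem_oddOf {c : G} (hc : c ∈ cM p E) : h.e * c * h.e⁻¹ * c⁻¹ ∈ oddOf (cM p E) := by
  set C := cM p E with hC
  set H := C ⊔ Subgroup.zpowers h.e with hH
  have hzC : Subgroup.zpowers h.e ≤ Subgroup.normalizer (C : Set G) := Subgroup.zpowers_le.2 h.e_norm_cM
  have heH : h.e ∈ H := Subgroup.mem_sup_right (Subgroup.mem_zpowers _)
  have hiso : IsIsolatedInvolution (⟨h.e, heH⟩ : ↥H) := by
    refine ⟨?_, fun g hg => ?_⟩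
    · rw [← orderOf_injective H.subtype H.subtype_injective]; exact h.e_order
    · obtain ⟨c', hc', a, ha, hca⟩ : ∃ c' ∈ C, ∃ a ∈ Subgroup.zpowers h.e, c' * a = (g : G) := by
        have h1 : (g : G) ∈ ((C ⊔ Subgroup.zpowers h.e : Subgroup G) : Set G) := g.2
        rw [Subgroup.coe_mul_of_right_le_normalizer_left _ _ hzC] at h1
        exact Set.mem_mul.1 h1
      have hae : a * h.e * a⁻¹ = h.e := by
        obtain ⟨j, rfl⟩ := Subgroup.mem_zpowers_iff.1 ha
        rw [((Commute.refl h.e).zpow_left j).eq, mul_inv_cancel_right]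
      have hge : (g : G) * h.e * (g : G)⁻¹ = c' * h.e * c'⁻¹ := by
        rw [← hca, show c' * a * h.e * (c' * a)⁻¹ = c' * (a * h.e * a⁻¹) * c'⁻¹ by group, hae]
      have hg' := congrArg Subtype.val hg.eq
      push_cast at hg'
      rw [hge] at hg'
      refine Subtype.ext ?_
      push_cast
      rw [hge]
      exact h.isolated hc' hg'
  have hz := Char.zStar_isolated hiso ⟨c, Subgroup.mem_sup_left hc⟩
  set Ω := (oddCore ↥H).map H.subtype with hΩ
  have hmem : h.e * c * h.e⁻¹ * c⁻¹ ∈ Ω := ⟨_, hz, by push_cast; rfl⟩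
  refine le_oddOf ?_ ?_ ?_ hmem
  · -- elements of odd order of `H` lie in `C`
    rintro _ ⟨x, hx, rfl⟩
    have hodd : Odd (orderOf (x : G)) := by
      rw [Subgroup.orderOf_coe]
      exact (Char.card_oddCore_odd ↥H).of_dvd_nat (Subgroup.orderOf_dvd_natCard _ hx)
    have hsq : (x : G) * x ∈ C := by
      obtain ⟨c', hc', a, ha, hca⟩ : ∃ c' ∈ C, ∃ a ∈ Subgroup.zpowers h.e, c' * a = (x : G) := by
        have h1 : (x : G) ∈ ((C ⊔ Subgroup.zpowers h.e : Subgroup G) : Set G) := x.2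
        rw [Subgroup.coe_mul_of_right_le_normalizer_left _ _ hzC] at h1
        exact Set.mem_mul.1 h1
      have ha2 : a * a = 1 := by
        obtain ⟨j, rfl⟩ := Subgroup.mem_zpowers_iff.1 ha
        rw [← (Commute.refl h.e).mul_zpow, h.e_sq, one_zpow]
      rw [← hca, show c' * a * (c' * a) = c' * (a * c' * a⁻¹) * (a * a) by group, ha2, mul_one]
      exact mul_mem hc' ((Subgroup.mem_normalizer_iff.1 (hzC ha) c').1 hc')
    obtain ⟨m, hm⟩ := hodd
    show (x : G) ∈ C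
    rw [show (x : G) = ((x : G) * x) ^ (m + 1) by
      rw [← pow_two, ← pow_mul, show 2 * (m + 1) = orderOf (x : G) + 1 by omega, pow_succ, pow_orderOf_eq_one,
        one_mul]]
    exact pow_mem hsq _
  · haveI : (oddCore ↥H).Normal := Solv.pPrimeCore_normal 2
    refine (le_sup_left : C ≤ H).trans (SubnBlock.le_normalizer_of_conj fun g hg x hx => ?_)
    obtain ⟨y, hy, rfl⟩ := hx
    exact ⟨⟨g, hg⟩ * y * ⟨g, hg⟩⁻¹, Subgroup.Normal.conj_mem inferInstance y hy _, rfl⟩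
  · rw [Subgroup.card_map_of_injective H.subtype_injective]
    exact Fusion.card_pPrimeCore_coprime 2 ↥H

/-- `[e, O(C)] ≤ R`. -/
theorem comm_oddOf_mem {w : G} (hw : w ∈ oddOf (cM p E)) : ⁅h.e, w⁆ ∈ cR p E := by
  classical
  set C := cM p E with hC
  set Ω := oddOf C with hΩ
  set S := Ω ⊓ Subgroup.centralizer {h.e} with hS
  set A := Subgroup.zpowers (h.k : G) with hA
  have hkC : (h.k : G) ∈ Subgroup.normalizer (C : Set G) := norm_cM Subgroup.le_normalizer h.k.2
  have hAΩ : A ≤ Subgroup.normalizer (Ω : Set G) := Subgroup.zpowers_le.2 (oddOf_normalizer C hkC)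
  have hco : (Nat.card ↥A).Coprime (Nat.card ↥Ω) := by
    rw [Nat.card_zpowers]
    refine Nat.Coprime.coprime_dvd_left (orderOf_dvd_of_pow_eq_one (n := 2 ^ 2) ?_) ((oddOf_card C).symm.pow_left 2)
    rw [← h.k_four]; norm_num [pow_succ, mul_assoc]
  have hsol : Group.IsSolvable ↥A ∨ Group.IsSolvable ↥Ω := Or.inl inferInstance
  obtain ⟨d, hd⟩ : Nat.card ↥S ∣ Nat.card ↥Ω := Subgroup.card_dvd_of_le inf_le_left
  have hd0 : d ≠ 0 := fun h0 => (Nat.card_pos (α := ↥Ω)).ne' (by rw [hd, h0, mul_zero])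
  have hdp : ∀ r : ℕ, r.Prime → r ∣ d → r = p := by
    intro r hr hrd
    by_contra hrp
    haveI : Fact r.Prime := ⟨hr⟩
    have hr2 : r ≠ 2 := fun h0 => by
      have h1 : r ∣ Nat.card ↥Ω := hd ▸ hrd.mul_left _
      subst h0
      exact absurd (Nat.eq_one_of_dvd_coprimes (oddOf_card C) h1 dvd_rfl) (by norm_num)
    obtain ⟨P, hP, hkP⟩ := Solv.exists_invariant_sylow hAΩ hco hsol r
    have hPS : P ≤ S := le_inf hP.1 (h.rgroup_cent hr2 hrp _ P rfl hP.isPGroup (hP.1.trans (oddOf_le C))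
      (hkP (Subgroup.mem_zpowers _)))
    have h1 : r ^ ((Nat.card ↥Ω).factorization r + 1) ∣ Nat.card ↥Ω := by
      have h2 := mul_dvd_mul (Subgroup.card_dvd_of_le hPS) hrd
      rw [hP.2, ← hd] at h2
      rw [pow_succ]
      exact h2
    have := (Nat.Prime.pow_dvd_iff_le_factorization hr Nat.card_pos.ne').1 h1
    omega
  obtain ⟨j, hj⟩ : ∃ j, d = p ^ j := ⟨_, Nat.eq_prime_pow_of_unique_prime_dvd hd0 fun {q} hq hqd => hdp q hq hqd⟩
  obtain ⟨P, hP, hkP⟩ := Solv.exists_invariant_sylow hAΩ hco hsol p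
  have hkP := hkP (Subgroup.mem_zpowers _)
  have heP : h.e ∈ Subgroup.normalizer (P : Set G) := mul_mem hkP hkP
  have hPS : ((P : Set G) * (S : Set G)) = (Ω : Set G) := by
    have hsub : (P : Set G) * (S : Set G) ⊆ (Ω : Set G) := by
      rintro _ ⟨a, ha, b, hb, rfl⟩
      exact mul_mem (hP.1 ha) hb.1
    refine (Set.eq_of_subset_of_ncard_le hsub ?_ (Set.toFinite _))
    rw [← Nat.card_coe_set_eq, ← Nat.card_coe_set_eq]
    refine Nat.le_of_mul_le_mul_right ?_ (Nat.card_pos (α := ↥(P ⊓ S : Subgroup G)))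
    rw [Solv.card_mul_set_mul_card_inf]
    obtain ⟨i, hi⟩ := IsPGroup.iff_card.1 (hP.isPGroup.to_le (inf_le_left : P ⊓ S ≤ P))
    have h1 : p ^ (j + i) ∣ Nat.card ↥Ω := by
      rw [hd, hj, pow_add, mul_comm (p ^ j)]
      exact mul_dvd_mul_right (hi ▸ Subgroup.card_dvd_of_le inf_le_right) _
    have h2 := Nat.pow_le_pow_right hp.out.pos
      ((Nat.Prime.pow_dvd_iff_le_factorization hp.out Nat.card_pos.ne').1 h1)
    rw [← hP.2, pow_add] at h2
    rw [hi]
    calc Nat.card ↥Ω * p ^ i = Nat.card ↥S * (p ^ j * p ^ i) := by rw [hd, hj, mul_assoc]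
      _ ≤ Nat.card ↥S * Nat.card ↥P := Nat.mul_le_mul_left _ h2
      _ = _ := mul_comm _ _
  have hX : ⁅Subgroup.zpowers h.e, Ω⁆ ≤ P := Subgroup.commutator_le.2 fun a ha g hg => by
    obtain ⟨x, hx, s, hs, rfl⟩ : g ∈ (P : Set G) * (S : Set G) := hPS ▸ hg
    have has : a * s = s * a := by
      obtain ⟨l, rfl⟩ := Subgroup.mem_zpowers_iff.1 ha
      exact ((show Commute h.e s from (Subgroup.mem_centralizer_singleton_iff.1 hs.2).symm).zpow_left l).eq
    show ⁅a, x * s⁆ ∈ P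
    rw [commutatorElement_def, show a * (x * s) * a⁻¹ * (x * s)⁻¹ = (a * x * a⁻¹) * ((a * s) * a⁻¹ * s⁻¹) * x⁻¹ by
      group, has, mul_inv_cancel_right, mul_inv_cancel, mul_one]
    exact mul_mem ((Subgroup.mem_normalizer_iff.1 (Subgroup.zpowers_le.2 heP ha) x).1 hx) (inv_mem hx)
  have hmem : ⁅h.e, w⁆ ∈ ⁅Subgroup.zpowers h.e, Ω⁆ :=
    Subgroup.commutator_mem_commutator (Subgroup.mem_zpowers _) hw
  have h1 : ⁅Subgroup.zpowers h.e, Ω⁆ ≤ pCoreOf p Ω :=
    Fusion.le_pCoreOf (hX.trans hP.1) (Subgroup.normalizer_commutator_ge_right _ _) (hP.isPGroup.to_le hX)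
  exact Fusion.le_pCoreOf ((Block.pCoreOf_le Ω).trans (oddOf_le C))
    (fun g hg => mem_normalizer_Q (oddOf_norm C hg)) (Fusion.pCoreOf_isPGroup (p := p) _) (h1 hmem)

theorem cM_norm : cM p E ≤ Subgroup.normalizer (E : Set G) := by
  intro c hc
  set d := h.e * c * h.e⁻¹ * c⁻¹ with hd
  have hdΩ := h.comm_mem_oddOf hc
  have h1 := h.comm_oddOf_mem hdΩ
  have hdinv : h.e * d * h.e⁻¹ = d⁻¹ := by
    rw [hd, h.e_inv, show h.e * (h.e * c * h.e * c⁻¹) * h.e = (h.e * h.e) * c * h.e * c⁻¹ * h.e by group,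
      h.e_sq]
    rw [show (h.e * c * h.e * c⁻¹)⁻¹ = c * h.e⁻¹ * c⁻¹ * h.e⁻¹ by group, h.e_inv]
    group
  rw [← hd, commutatorElement_def, hdinv] at h1
  have hsq : d * d ∈ cR p E := by
    have := inv_mem h1
    rwa [mul_inv_rev, inv_inv] at this
  have hodd : Odd (orderOf d) := Odd.of_dvd_nat (Nat.coprime_two_right.1 (oddOf_card _))
    (Subgroup.orderOf_dvd_natCard _ hdΩ)
  obtain ⟨m, hm⟩ := hodd
  have hdR : d ∈ cR p E := by
    have e1 : (d * d) ^ (m + 1) = d := by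
      rw [(pow_two d).symm, ← pow_mul, show 2 * (m + 1) = orderOf d + 1 by omega, pow_succ, pow_orderOf_eq_one,
        one_mul]
    rw [← e1]
    exact pow_mem hsq _
  set r := d ^ m with hr
  have hrR : r ∈ cR p E := pow_mem hdR m
  have hone : r * r * d = 1 := by
    rw [hr, ← pow_add, ← pow_succ, show m + m + 1 = orderOf d by omega, pow_orderOf_eq_one]
  set y := r⁻¹ * c with hy
  have hyC : y ∈ cM p E := mul_mem (inv_mem (Block.pCoreOf_le _ hrR)) hc
  have her : h.e * r * h.e⁻¹ = r⁻¹ := by rw [hr, ← conj_pow, hdinv, inv_pow]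
  have hye : h.e * y * h.e⁻¹ = y := by
    rw [hy, show h.e * (r⁻¹ * c) * h.e⁻¹ = (h.e * r * h.e⁻¹)⁻¹ * (d * c) by rw [hd]; group, her, inv_inv,
      show r * (d * c) = r * d * c by group]
    congr 1
    refine eq_inv_of_mul_eq_one_right ?_
    rw [← mul_assoc, hone]
  have hyY := h.mem_cY_of_comm hyC (mul_inv_eq_iff_eq_mul.1 hye)
  rw [show c = r * y by rw [hy]; group]
  exact mul_mem (cR_norm h.pre hrR) (h.cY_norm hyY)

end Ctx

/-- The centraliser of `[W, E]` normalises `E`. -/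
theorem centralizer_le_normalizer (hG : Subgroup.centralizer (pCore p G : Set G) ≤ pCore p G)
    (hT : IsBaumannBlock p (T : Subgroup G) E) :
    cM p E ≤ Subgroup.normalizer (E : Set G) := by
  have hP := pre_of_block hG T hT
  by_cases hRE : ⁅cR p E, E⁆ ≤ omegaOneCenter p (pCoreOf p E)
  · exact main_plain hG hT hP hRE
  rcases hP.qcase with hQ | ⟨F, _, _, ⟨D⟩⟩
  · exact absurd ((cR_comm hP).trans (hQ.le.trans hP.movW)) hRE
  have hWQ : omegaOneCenter p (pCoreOf p E) ≤ pCoreOf p E := fun _ hx => (omegaOneCenter_props hx).1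
  set X := ⁅cR p E, E⁆ with hX
  have hXn : E ≤ Subgroup.normalizer (X : Set G) := Subgroup.normalizer_commutator_ge_right _ _
  have hSQ : X ⊔ omegaOneCenter p (pCoreOf p E) = pCoreOf p E :=
    (D.irrQ _ le_sup_right (sup_le (cR_comm hP) hWQ) (le_normalizer_sup hXn hP.normW)).resolve_left
      fun h0 => hRE (le_sup_left.trans h0.le)
  have hXR : X ≤ cR p E :=
    Subgroup.le_normalizer_iff_commutator_le_left.1 (norm_cR Subgroup.le_normalizer)
  have hQE : pCoreOf p E ≤ Subgroup.normalizer (cR p E : Set G) :=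
    (Block.pCoreOf_le E).trans (norm_cR Subgroup.le_normalizer)
  let S : Subgroup G :=
    { carrier := {a | a ∈ pCoreOf p E ∧ ∀ b ∈ pCoreOf p E, ⁅a, b⁆ ∈ cR p E}
      one_mem' := ⟨one_mem _, fun b _ => by simp⟩
      mul_mem' := by
        rintro a a' ⟨ha, ha'⟩ ⟨hb, hb'⟩
        refine ⟨mul_mem ha hb, fun b hb'' => ?_⟩
        rw [show ⁅a * a', b⁆ = a * ⁅a', b⁆ * a⁻¹ * ⁅a, b⁆ by simp only [commutatorElement_def]; group]
        exact mul_mem ((Subgroup.mem_normalizer_iff.1 (hQE ha) _).1 (hb' b hb'')) (ha' b hb'')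
      inv_mem' := by
        rintro a ⟨ha, ha'⟩
        refine ⟨inv_mem ha, fun b hb => ?_⟩
        rw [show ⁅a⁻¹, b⁆ = a⁻¹ * ⁅a, b⁆⁻¹ * a⁻¹⁻¹ by simp only [commutatorElement_def]; group]
        exact (Subgroup.mem_normalizer_iff.1 (hQE (inv_mem ha)) _).1 (inv_mem (ha' b hb)) }
  have hQS : pCoreOf p E ≤ S := by
    conv_lhs => rw [← hSQ]
    refine sup_le (fun a ha => ⟨cR_comm hP ha, fun b hb => ?_⟩) fun w hw => ⟨hWQ hw, fun b hb => ?_⟩
    · rw [commutatorElement_def, show a * b * a⁻¹ * b⁻¹ = a * (b * a⁻¹ * b⁻¹) by group]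
      exact mul_mem (hXR ha) ((Subgroup.mem_normalizer_iff.1 (hQE hb) _).1 (inv_mem (hXR ha)))
    · rw [commutatorElement_eq_one_iff_mul_comm.2 (W_central hb hw).symm]
      exact one_mem _
  have hQR : pCoreOf p E ≤ cR p E := by
    rw [← hSQ]
    refine sup_le hXR (fun w hw => ?_)
    obtain ⟨m, hm, z, hz, rfl⟩ := mem_sup_abelian (A := mov p E)
      (B := omegaOneCenter p (pCoreOf p E) ⊓ Subgroup.centralizer (E : Set G))
      (fun a ha b hb => omega_comm _ hb.1 _ (hP.movW ha)) (hP.cover hw)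
    refine mul_mem (mov_le_cR hT hP hm) ?_
    exact (Subgroup.commutator_le.2 fun a ha b hb => (hQS ha).2 b hb) (D.zeq.ge hz)
  exact Ctx.cM_norm ⟨hG, hT, hP, D, hQR⟩

end Cfsg.Agent.LocalEven.BlockCentral
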