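import Cfsg.Agent.Lib.LocalEven.BlockCentral.Linear
import Cfsg.Agent.Lib.LocalEven.BlockCentral.Form
import Cfsg.Agent.Lib.Solv.HallHigman

/-!
# The part of the centraliser normalising `O_p(E)` is trivial on `Q / W`
-/

set_option autoImplicit false

open scoped commutatorElement Pointwise

namespace Cfsg.Agent.LocalEven.BlockCentral

open Cfsg Cfsg.Agent.Fusion Cfsg.Agent.LocalEven.Block Cfsg.Agent.LocalEven.SubnBlock
open Cfsg.Agent.LocalEven.BlockNormal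

variable {G : Type*} [Group G] [Finite G] {p : ℕ} [hp : Fact p.Prime] {T : Sylow p G} {E : Subgroup G}
  {F : Type} [Field F] [Fintype F]

omit [Finite G] hp in
theorem comm_mul_mem {N Z : Subgroup G} (hN : ⁅N, N⁆ ≤ Z) {a c g : G} (ha : a ∈ N) (hc : c ∈ N)
    (hg : g ∈ Subgroup.normalizer (N : Set G)) : ⁅a * c, g⁆ * (⁅a, g⁆ * ⁅c, g⁆)⁻¹ ∈ Z := by
  have hca := (comm_mem ha hg).1
  have hcc := (comm_mem hc hg).1
  rw [show ⁅a * c, g⁆ * (⁅a, g⁆ * ⁅c, g⁆)⁻¹ = ⁅a, ⁅c, g⁆⁆ * ⁅⁅c, g⁆, ⁅a, g⁆⁆ by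
    simp only [commutatorElement_def]; group]
  exact mul_mem (hN (Subgroup.commutator_mem_commutator ha hcc))
    (hN (Subgroup.commutator_mem_commutator hcc hca))

theorem exists_coprime_pow (y : G) : ∃ a : ℕ, (orderOf (y ^ p ^ a)).Coprime p := by
  obtain ⟨k, m, hm, hkm⟩ := Nat.exists_eq_pow_mul_and_not_dvd (orderOf_pos y).ne' p hp.out.ne_one
  refine ⟨k, Nat.Coprime.coprime_dvd_left (orderOf_dvd_of_pow_eq_one (n := m) ?_)
    (hp.out.coprime_iff_not_dvd.2 hm).symm⟩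
  rw [← pow_mul, ← hkm, pow_orderOf_eq_one]

theorem trivOn_norm (X P : Subgroup G) :
    Subgroup.normalizer (X : Set G) ⊓ Subgroup.normalizer (P : Set G) ≤
      Subgroup.normalizer (trivOn X P : Set G) :=
  SubnBlock.le_normalizer_of_conj fun _ hn _ hg => trivOn_conj hn.1 hn.2 hg

namespace Ctx

variable (h : Ctx p T E F)
include h

theorem W_le : omegaOneCenter p (pCoreOf p E) ≤ pCoreOf p E := fun _ hx => (omegaOneCenter_props hx).1

theorem Q_norm_Z {g : G} (hg : g ∈ Subgroup.normalizer (pCoreOf p E : Set G)) :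
    g ∈ Subgroup.normalizer ((⁅pCoreOf p E, pCoreOf p E⁆ : Subgroup G) : Set G) :=
  le_normalizer_comm (le_refl _) (le_refl _) hg

theorem comm_W {z w : G} (hz : z ∈ cY p E) (hw : w ∈ omegaOneCenter p (pCoreOf p E)) :
    z * w * z⁻¹ * w⁻¹ ∈ ⁅pCoreOf p E, pCoreOf p E⁆ := by
  obtain ⟨m, hm, z0, hz0, rfl⟩ := h.split hw
  rw [show z * (m * z0) * z⁻¹ = (z * m * z⁻¹) * (z * z0 * z⁻¹) by group,
    ← Subgroup.mem_centralizer_iff.1 hz.1 m hm, mul_inv_cancel_right,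
    show m * (z * z0 * z⁻¹) * (m * z0)⁻¹ = m * (z * z0 * z⁻¹ * z0⁻¹) * m⁻¹ by group]
  have h1 : z * z0 * z⁻¹ * z0⁻¹ ∈ ⁅pCoreOf p E, pCoreOf p E⁆ :=
    mul_mem ((Subgroup.mem_normalizer_iff.1 (h.Q_norm_Z hz.2) z0).1 hz0) (inv_mem hz0)
  rw [W_central (h.W_le (h.pre.movW hm)) (h.Z_W h1), mul_inv_cancel_right]
  exact h1

/-- No element of the centraliser acts as a nontrivial scalar on `Q / W`. -/
theorem no_scalar {y : G} (hy : y ∈ cY p E) {s : F}
    (hs : ∀ q ∈ pCoreOf p E, h.D.S2.c (y * q * y⁻¹) = s • h.D.S2.c q) : s = 1 := by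
  classical
  set Q := pCoreOf p E with hQd
  set W := omegaOneCenter p Q with hWd
  set Z := ⁅Q, Q⁆ with hZd
  set B := baumannSubgroupOf p (T : Subgroup G) with hBd
  set S := h.D.S2 with hSd
  obtain ⟨n, hn⟩ := h.D.card
  haveI := NatSL2.charP_of_card hn
  have hBp : IsPGroup p ↥B := T.isPGroup'.to_le (baumann_le _)
  have hBE := baumann_norm h.pre
  have hBQ : B ≤ Subgroup.normalizer (Q : Set G) := norm_Q hBE
  have hBW : B ≤ Subgroup.normalizer (W : Set G) := norm_W hBE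
  have hYW : ∀ {g : G}, g ∈ cY p E → g ∈ Subgroup.normalizer (W : Set G) := fun hg =>
    normalizer_omega (le_refl _) hg.2
  have hyQ : y ∈ Subgroup.normalizer (Q : Set G) := hy.2
  -- conjugates of `B` under `y`
  have hK : ∀ b ∈ B, ⁅y, b⁆ ∈ cY p E ⊓ trivOn Q W := fun b hb => by
    have h1 : b * y⁻¹ * b⁻¹ ∈ cY p E := (Subgroup.mem_normalizer_iff.1 (norm_cY hBE hb) _).1 (inv_mem hy)
    have h2 : ⁅y, b⁆ ∈ cY p E := by
      rw [commutatorElement_def, show y * b * y⁻¹ * b⁻¹ = y * (b * y⁻¹ * b⁻¹) by group]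
      exact mul_mem hy h1
    refine Subgroup.mem_inf.2 ⟨h2, hYW h2, fun x hx => ?_⟩
    set v := b⁻¹ * x * b with hv
    set u := y⁻¹ * v * y with hu
    have hvQ : v ∈ Q := (Subgroup.mem_normalizer_iff''.1 (hBQ hb) x).1 hx
    have huQ : u ∈ Q := (Subgroup.mem_normalizer_iff''.1 hyQ v).1 hvQ
    have hbu : b * u * b⁻¹ ∈ Q := (Subgroup.mem_normalizer_iff.1 (hBQ hb) u).1 huQ
    have hcv : S.c v = s • S.c u := by rw [← hs u huQ, hu]; congr 1; group
    have hcx := h.baumann_linear2 hb u huQ v hvQ s hcv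
    rw [show b * v * b⁻¹ = x by rw [hv]; group, id_eq] at hcx
    have h3 := hs _ hbu
    rw [← hcx, show y * (b * u * b⁻¹) * y⁻¹ = ⁅y, b⁆ * x * ⁅y, b⁆⁻¹ by
      rw [hu, hv]; simp only [commutatorElement_def]; group] at h3
    have h4 : ⁅y, b⁆ * x * ⁅y, b⁆⁻¹ ∈ Q := (Subgroup.mem_normalizer_iff.1 h2.2 x).1 hx
    rw [commutatorElement_def (g₂ := x)]
    refine (S.c_zero _ (mul_mem h4 (inv_mem hx))).1 ?_
    rw [S.c_mul _ h4 _ (inv_mem hx), S.c_inv hx, h3, add_neg_cancel]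
  set K2 := cY p E ⊓ trivOn Q W with hK2
  have hBK : B ≤ Subgroup.normalizer (K2 : Set G) :=
    Block.le_normalizer_inf (norm_cY hBE) ((le_inf hBQ hBW).trans (trivOn_norm Q W))
  have hyK : y ∈ Subgroup.normalizer (K2 : Set G) :=
    Block.le_normalizer_inf Subgroup.le_normalizer
      ((le_inf inf_le_right fun g hg => hYW hg).trans (trivOn_norm Q W)) hy
  set H := B ⊔ K2 with hH
  have hyH : y ∈ Subgroup.normalizer (H : Set G) := by
    refine Fusion.mem_normalizer_of_cj_le (Subgroup.map_le_iff_le_comap.2 (sup_le ?_ ?_))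
    · intro b hb
      show y * b * y⁻¹ ∈ H
      rw [show y * b * y⁻¹ = ⁅y, b⁆ * b by rw [commutatorElement_def]; group]
      exact mul_mem (Subgroup.mem_sup_right (hK b hb)) (Subgroup.mem_sup_left hb)
    · intro g hg
      exact Subgroup.mem_sup_right ((Subgroup.mem_normalizer_iff.1 hyK g).1 hg)
  obtain ⟨P, hP, hBP⟩ := exists_sylIn_ge hBp (le_sup_left : B ≤ H)
  obtain ⟨x, hxH, hx⟩ := (hP.cj' hyH).conj_eq hP
  rw [Fusion.cj_cj] at hx
  obtain ⟨b1, hb1, k1, hk1, rfl⟩ : ∃ b1 ∈ B, ∃ k1 ∈ K2, b1 * k1 = x := by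
    have h1 : x ∈ ((B ⊔ K2 : Subgroup G) : Set G) := hxH
    rw [Subgroup.coe_mul_of_left_le_normalizer_right B K2 hBK] at h1
    exact Set.mem_mul.1 h1
  set m := b1 * k1 * y with hm
  have hmB : m ∈ Subgroup.normalizer (B : Set G) := by
    obtain ⟨T1, hT1⟩ := hP.isPGroup.exists_le_sylow
    have hT2 : ((m • T : Sylow p G) : Subgroup G) = Fusion.cj (T : Subgroup G) m := rfl
    have e1 : baumannSubgroupOf p ((m • T : Sylow p G) : Subgroup G) = Fusion.cj B m := by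
      rw [hT2, hBd]; exact (baumann_map (T : Subgroup G) (MulAut.conj m)).symm
    have h1 : baumannSubgroupOf p (T1 : Subgroup G) = B := baumann_eq_of_le T T1 (hBP.trans hT1)
    have h2 := baumann_eq_of_le (m • T) T1 (by
      rw [e1]; exact ((Fusion.cj_mono hBP m).trans hx.le).trans hT1)
    rw [e1, h1] at h2
    exact Fusion.mem_normalizer_iff_cj.2 h2.symm
  set y1 := k1 * y with hy1
  have hy1B : y1 ∈ Subgroup.normalizer (B : Set G) := by
    rw [hy1, show k1 * y = b1⁻¹ * m by rw [hm]; group]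
    exact mul_mem (inv_mem (Subgroup.le_normalizer hb1)) hmB
  have hy1Y : y1 ∈ cY p E := mul_mem hk1.1 hy
  have hs1 : ∀ q ∈ Q, S.c (y1 * q * y1⁻¹) = s • S.c q := fun q hq => by
    have hyq : y * q * y⁻¹ ∈ Q := (Subgroup.mem_normalizer_iff.1 hyQ q).1 hq
    have hkyq : k1 * (y * q * y⁻¹) * k1⁻¹ ∈ Q := (Subgroup.mem_normalizer_iff.1 hk1.1.2 _).1 hyq
    rw [← hs q hq, hy1, show k1 * y * q * (k1 * y)⁻¹ = k1 * (y * q * y⁻¹) * k1⁻¹ by group]
    have h5 := hk1.2.2 _ hyq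
    rw [commutatorElement_def] at h5
    have h6 := (S.c_zero _ (mul_mem hkyq (inv_mem hyq))).2 h5
    rwa [S.c_mul _ hkyq _ (inv_mem hyq), S.c_inv hyq, ← sub_eq_add_neg, sub_eq_zero] at h6
  obtain ⟨a, ha⟩ := exists_coprime_pow (p := p) y1
  set z := y1 ^ p ^ a with hz
  have hpow : ∀ i : ℕ, ∀ q ∈ Q, S.c (y1 ^ i * q * (y1 ^ i)⁻¹) = s ^ i • S.c q := by
    intro i
    induction i with
    | zero => intro q _; simp
    | succ i ih =>
      intro q hq
      rw [show y1 ^ (i + 1) * q * (y1 ^ (i + 1))⁻¹ = y1 * (y1 ^ i * q * (y1 ^ i)⁻¹) * y1⁻¹ by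
        rw [pow_succ']; group, hs1 _ ((Subgroup.mem_normalizer_iff.1 (pow_mem hy1Y.2 i) q).1 hq), ih q hq,
        smul_smul, pow_succ']
  by_contra hs0
  have ht1 : s ^ p ^ a ≠ 1 := fun h0 => hs0 (by
    have h2 : (s - 1) ^ p ^ a = 0 := by rw [sub_pow_char_pow, one_pow, h0, sub_self]
    exact sub_eq_zero.1 (pow_eq_zero_iff (pow_ne_zero _ hp.out.ne_zero) |>.1 h2))
  set t := s ^ p ^ a with ht
  have hzs : ∀ q ∈ Q, S.c (z * q * z⁻¹) = t • S.c q := hpow (p ^ a)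
  have hzY : z ∈ cY p E := pow_mem hy1Y _
  have hzB : z ∈ Subgroup.normalizer (B : Set G) := pow_mem hy1B _
  -- an element of `B` commuting with `z`
  have hAB : Subgroup.zpowers z ≤ Subgroup.normalizer (B : Set G) := Subgroup.zpowers_le.2 hzB
  obtain ⟨b, hb, hbC, hbz⟩ : ∃ b ∈ B, b ∉ cM p E ∧ z * b = b * z := by
    by_contra hc
    push Not at hc
    obtain ⟨b, hb, hbC⟩ := h.moving
    refine hbC ((?_ : B ≤ cM p E) hb)
    obtain ⟨j, hj⟩ := IsPGroup.iff_card.1 hBp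
    have hsup := Solv.commutator_sup_fixed (A := Subgroup.zpowers z) (K := B) hAB
      (by rw [hj, Nat.card_zpowers]; exact ha.pow_right j)
      (Or.inr (by haveI := hBp.isNilpotent; infer_instance))
    conv_lhs => rw [← hsup]
    refine sup_le (Subgroup.commutator_le.2 fun b hb g hg => ?_) fun b hb => ?_
    · have hgC : g ∈ cM p E := Subgroup.zpowers_le.2 hzY.1 hg
      rw [commutatorElement_def]
      exact mul_mem ((Subgroup.mem_normalizer_iff.1 (norm_cM hBE hb) g).1 hgC) (inv_mem hgC)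
    · by_contra hbC
      exact hc b hb.1 hbC (Subgroup.mem_centralizer_iff.1 hb.2 z (Subgroup.mem_zpowers z))
  have hbW : b ∉ Subgroup.centralizer (W : Set G) := fun hc =>
    hbC (Subgroup.centralizer_le (SetLike.coe_subset_coe.2 h.pre.movW) hc)
  have hbQ := hBQ hb
  have hbZ := h.Q_norm_Z hbQ
  have hzp : IsPGroup p ↥(Subgroup.zpowers b) := hBp.to_le (Subgroup.zpowers_le.2 hb)
  obtain ⟨x, hx0, hxW, hxfix⟩ := fixed_mod hzp h.Q_isPGroup (lt_of_le_of_ne h.W_le h.D.W_ne)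
    (Subgroup.zpowers_le.2 hbQ)
  have hne : S.c x ≠ 0 := fun h0 => hxW ((S.c_zero x hx0).1 h0)
  have hfix : S.c (b * x * b⁻¹) = S.c x := by
    have h1 := hxfix b (Subgroup.mem_zpowers b)
    rw [commutatorElement_def] at h1
    have h2 := (S.c_zero _ (mul_mem (S.toCoord.conj_mem hbQ hx0) (inv_mem hx0))).2 h1
    rw [S.c_mul _ (S.toCoord.conj_mem hbQ hx0) _ (inv_mem hx0), S.c_inv hx0, ← sub_eq_add_neg,
      sub_eq_zero] at h2
    exact h2
  obtain ⟨k, hk⟩ := T.isPGroup' ⟨b, baumann_le _ hb⟩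
  obtain ⟨t', ht'⟩ := S.exists_shear hn hbQ (h.baumann_linear2 hb) hx0 hne hfix (congrArg Subtype.val hk)
  have hquad : ∀ q ∈ Q, ∀ i j : ℕ, ⁅⁅q, b ^ i⁆, b ^ j⁆ ∈ Z := by
    intro q hq i j
    have hg := pow_mem hbQ i
    have hg' := pow_mem hbQ j
    have hgZ' := pow_mem hbZ j
    obtain ⟨f, hf⟩ : ∃ f : G → G, ∀ q, f q = ⁅⁅q, b ^ i⁆, b ^ j⁆ := ⟨_, fun _ => rfl⟩
    have hfm : ∀ a ∈ Q, ∀ c ∈ Q, f (a * c) * (f a * f c)⁻¹ ∈ Z := fun a ha c hc => by
      obtain ⟨ζ, hζ, e1⟩ : ∃ ζ ∈ Z, ⁅a * c, b ^ i⁆ = ζ * (⁅a, b ^ i⁆ * ⁅c, b ^ i⁆) :=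
        ⟨_, comm_mul_mem (le_refl Z) ha hc hg, by group⟩
      have hu := mul_mem (comm_mem ha hg).1 (comm_mem hc hg).1
      have hζQ : ζ ∈ Q := h.W_le (h.Z_W hζ)
      have h1 := comm_mul_mem (le_refl Z) hζQ hu hg'
      have h2 := comm_mul_mem (le_refl Z) (comm_mem ha hg).1 (comm_mem hc hg).1 hg'
      have h3 : ⁅ζ, b ^ j⁆ ∈ Z := (comm_mem hζ hgZ').1
      rw [hf, hf, hf, e1]
      have h4 := mul_mem (mul_mem h1 h3) h2
      convert h4 using 1
      group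
    have hfW : ∀ a ∈ Q, f a ∈ W := fun a ha => hf a ▸ S.shear_quadratic hbQ ht' a ha i j
    have hfw : ∀ w ∈ W, f w ∈ Z := fun w hw => by
      obtain ⟨m, hm, z0, hz0, rfl⟩ := h.split hw
      have h1 := hfm m (h.W_le (h.pre.movW hm)) z0 (h.W_le (h.Z_W hz0))
      have hm1 : f m = 1 := (hf m).trans (h.baumann_quad hb m hm i j)
      have hz1 : f z0 ∈ Z := hf z0 ▸ (comm_mem (comm_mem hz0 (pow_mem hbZ i)).1 hgZ').1
      rw [hm1, one_mul] at h1
      have h4 := mul_mem h1 hz1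
      rwa [inv_mul_cancel_right] at h4
    obtain ⟨x0, hx0, hxc⟩ := S.c_surj ((t - 1)⁻¹ • S.c q)
    have hzx : z * x0 * z⁻¹ ∈ Q := (Subgroup.mem_normalizer_iff.1 hzY.2 x0).1 hx0
    set u := z * x0 * z⁻¹ * x0⁻¹ with hu
    have huQ : u ∈ Q := mul_mem hzx (inv_mem hx0)
    have huc : S.c u = S.c q := by
      rw [hu, S.c_mul _ hzx _ (inv_mem hx0), S.c_inv hx0, hzs x0 hx0, hxc, ← sub_eq_add_neg,
        show t • (t - 1)⁻¹ • S.c q - (t - 1)⁻¹ • S.c q = ((t - 1) * (t - 1)⁻¹) • S.c q by module,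
        mul_inv_cancel₀ (sub_ne_zero.2 ht1), one_smul]
    have hfu : f u ∈ Z := by
      have hzb : ∀ l : ℕ, z * b ^ l * z⁻¹ = b ^ l := fun l => by
        rw [(show Commute z b from hbz).pow_right l |>.eq, mul_inv_cancel_right]
      have e2 : f (u * x0) = z * f x0 * z⁻¹ := by
        rw [hf, hf, show u * x0 = z * x0 * z⁻¹ by rw [hu]; group,
          show z * ⁅⁅x0, b ^ i⁆, b ^ j⁆ * z⁻¹ = ⁅⁅z * x0 * z⁻¹, z * b ^ i * z⁻¹⁆, z * b ^ j * z⁻¹⁆ by
            simp only [commutatorElement_def]; group, hzb i, hzb j]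
      have h1 := h.comm_W hzY (hfW x0 hx0)
      have h2 := hfm u huQ x0 hx0
      rw [e2] at h2
      have h3 : f u ∈ W := hfW u huQ
      have h5 := mul_mem (inv_mem h2) h1
      rwa [show (z * f x0 * z⁻¹ * (f u * f x0)⁻¹)⁻¹ * (z * f x0 * z⁻¹ * (f x0)⁻¹) = f u by group] at h5
    have hw : u⁻¹ * q ∈ W := (S.eq_iff huQ hq).1 huc
    have h1 := hfm u huQ _ (mul_mem (inv_mem huQ) hq)
    rw [mul_inv_cancel_left] at h1
    have h2 := mul_mem h1 (mul_mem hfu (hfw _ hw))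
    rw [inv_mul_cancel_right, hf] at h2
    exact h2
  refine h.D.quad b hb hbW (Subgroup.commutator_le.2 fun q hq g hg => ?_)
  obtain ⟨j, rfl⟩ := mem_powers_iff_mem_zpowers.2 hg
  have hZeq : E ⊓ Subgroup.centralizer (E : Set G) = Z := h.D.cent.trans h.D.zeq.symm
  have hZc : ∀ c ∈ Z, ∀ a ∈ Q, a * c * a⁻¹ = c := fun c hc a ha => by
    rw [W_central ha (h.Z_W hc), mul_inv_cancel_right]
  let Y : Subgroup G :=
    { carrier := {y | y ∈ Q ∧ ⁅y, b ^ j⁆ ∈ Z}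
      one_mem' := ⟨one_mem _, by simp⟩
      mul_mem' := by
        rintro a c ⟨ha, ha'⟩ ⟨hc, hc'⟩
        refine ⟨mul_mem ha hc, ?_⟩
        rw [show ⁅a * c, b ^ j⁆ = a * ⁅c, b ^ j⁆ * a⁻¹ * ⁅a, b ^ j⁆ by
          simp only [commutatorElement_def]; group, hZc _ hc' a ha]
        exact mul_mem hc' ha'
      inv_mem' := by
        rintro a ⟨ha, ha'⟩
        refine ⟨inv_mem ha, ?_⟩
        rw [show ⁅a⁻¹, b ^ j⁆ = a⁻¹ * ⁅a, b ^ j⁆⁻¹ * a⁻¹⁻¹ by simp only [commutatorElement_def]; group,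
          hZc _ (inv_mem ha') _ (inv_mem ha)]
        exact inv_mem ha' }
  have hY : ⁅Q, Subgroup.zpowers b⁆ ≤ Y := Subgroup.commutator_le.2 fun a ha g' hg' => by
    obtain ⟨i, rfl⟩ := mem_powers_iff_mem_zpowers.2 hg'
    exact ⟨(comm_mem ha (pow_mem hbQ i)).1, hquad a ha i j⟩
  rw [hZeq]
  exact (hY hq).2

/-- The centre of `Q` modulo `W` has `|F|` elements. -/
theorem card_Z : Nat.card ↥⁅pCoreOf p E, pCoreOf p E⁆ = Fintype.card F := by
  classical
  obtain ⟨-, -, -, -, hcase⟩ := h.hT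
  rcases hcase with ⟨F', _, _, n, hF, -, -, hQW | ⟨hp3, hact', -, -, -, hzc, -⟩⟩ | ⟨hp2, -⟩
  · exact absurd hQW.symm h.D.W_ne
  · obtain ⟨-, -, -, hcard, -, -⟩ := linear_facts (p := p) hact'
    let χ : ↥(pCoreOf p E) →* Multiplicative (Fin 2 → F) :=
      MonoidHom.mk' (fun y => Multiplicative.ofAdd (h.D.S2.c y)) fun y y' => by
        show Multiplicative.ofAdd (h.D.S2.c ((y : G) * y')) = _
        rw [h.D.S2.c_mul _ y.2 _ y'.2]
        rfl
    obtain ⟨-, hc⟩ := section_card h.W_le χ fun y => by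
      show Multiplicative.ofAdd (h.D.S2.c y) = 1 ↔ _
      rw [ofAdd_eq_one, h.D.S2.c_zero _ y.2]
    rw [MonoidHom.range_eq_top.2 (fun v => ?_), Subgroup.card_top, Nat.card_congr Multiplicative.toAdd,
      Nat.card_fun, Nat.card_fin, Nat.card_eq_fintype_card (α := F), hcard] at hc
    · have h2 := Nat.pow_left_injective (n := 2) two_ne_zero (Nat.eq_of_mul_eq_mul_left Nat.card_pos hc)
      rw [h.D.zeq, ← h.D.cent, hzc, ← h2, hF, hp3]
    · obtain ⟨y, hy, hyc⟩ := h.D.S2.c_surj (Multiplicative.toAdd v)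
      exact ⟨⟨y, hy⟩, congrArg Multiplicative.ofAdd hyc⟩
  · have := h.D.three; omega

/-- An element of `Y` centralising `Q'` acts on `Q / W` as a matrix. -/
theorem exists_mat {y : G} (hy : y ∈ cY p E)
    (hyZ : y ∈ Subgroup.centralizer ((⁅pCoreOf p E, pCoreOf p E⁆ : Subgroup G) : Set G)) :
    ∃ g : Matrix.SpecialLinearGroup (Fin 2) F, ∀ q ∈ pCoreOf p E,
      h.D.S2.c (y * q * y⁻¹) = (g : Matrix (Fin 2) (Fin 2) F).mulVec (h.D.S2.c q) := by
  classical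
  set Q := pCoreOf p E with hQd
  set S := h.D.S2 with hSd
  obtain ⟨n, hn⟩ := h.D.card
  obtain ⟨Φ, hΦ⟩ := exists_form S h.D.three_le hn h.D.three (fun a ha w hw => W_central ha hw) h.W_le
    (fun z hz => h.Z_W hz) (fun z hz e he => h.Z_cent hz he)
  have hinj : Function.Injective Φ := by
    have hle : ⁅Q, Q⁆ ≤ Φ.range := Subgroup.commutator_le.2 fun a ha b hb => ⟨_, (hΦ a ha b hb).symm⟩
    have hc : Nat.card (Multiplicative F) ≤ Nat.card Φ.range := by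
      refine le_trans (le_of_eq ?_) (Subgroup.card_le_of_le hle)
      rw [h.card_Z, Nat.card_congr Multiplicative.toAdd, Nat.card_eq_fintype_card]
    have h1 : Function.Injective Φ.rangeRestrict :=
      (Φ.rangeRestrict_surjective.bijective_of_nat_card_le hc).1
    exact fun a b e => h1 (Subtype.ext e)
  have hyQ : y ∈ Subgroup.normalizer (Q : Set G) := hy.2
  have hyW : y ∈ Subgroup.normalizer (omegaOneCenter p Q : Set G) := normalizer_omega (le_refl _) hyQ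
  choose lf hlf hclf using S.c_surj
  obtain ⟨τ, hτ⟩ : ∃ τ : (Fin 2 → F) → Fin 2 → F, ∀ v, τ v = S.c (y * lf v * y⁻¹) := ⟨_, fun _ => rfl⟩
  have hT : ∀ q ∈ Q, τ (S.c q) = S.c (y * q * y⁻¹) := fun q hq =>
    (hτ _).trans (S.toCoord.congr_conj hyQ hyW (hlf _) hq (hclf _))
  have hadd : ∀ u v, τ (u + v) = τ u + τ v := fun u v => by
    rw [← hclf u, ← hclf v, ← S.c_mul _ (hlf u) _ (hlf v), hT _ (mul_mem (hlf u) (hlf v)), hT _ (hlf u),
      hT _ (hlf v), show y * (lf u * lf v) * y⁻¹ = (y * lf u * y⁻¹) * (y * lf v * y⁻¹) by group,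
      S.c_mul _ (S.toCoord.conj_mem hyQ (hlf u)) _ (S.toCoord.conj_mem hyQ (hlf v))]
  have hsurj : ∀ v, ∃ u, τ u = v := fun v => by
    obtain ⟨q, hq, rfl⟩ := S.c_surj v
    have hq' : y⁻¹ * q * y ∈ Q := (Subgroup.mem_normalizer_iff''.1 hyQ q).1 hq
    exact ⟨S.c (y⁻¹ * q * y), by rw [hT _ hq']; congr 1; group⟩
  have hdd : ∀ u v, dd (τ u) (τ v) = dd u v := fun u v => by
    have ha := S.toCoord.conj_mem hyQ (hlf u)
    have hb := S.toCoord.conj_mem hyQ (hlf v)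
    refine Multiplicative.ofAdd.injective (hinj ?_)
    rw [hτ, hτ, ← hΦ _ ha _ hb]
    conv_rhs => rw [← hclf u, ← hclf v, ← hΦ _ (hlf u) _ (hlf v)]
    rw [show ⁅y * lf u * y⁻¹, y * lf v * y⁻¹⁆ = y * ⁅lf u, lf v⁆ * y⁻¹ by
      simp only [commutatorElement_def]; group,
      ← Subgroup.mem_centralizer_iff.1 hyZ _ (Subgroup.commutator_mem_commutator (hlf u) (hlf v)),
      mul_inv_cancel_right]
  have hsmul : ∀ (l : F) u, τ (l • u) = l • τ u := fun l u => by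
    by_contra hne
    obtain ⟨w, hw⟩ := exists_dual (sub_ne_zero.2 hne)
    obtain ⟨v, rfl⟩ := hsurj w
    have h1 : dd (τ (l • u)) (τ v) = l * dd (τ u) (τ v) := by
      rw [hdd, hdd]; simp only [dd, Pi.smul_apply, smul_eq_mul]; ring
    simp only [dd, Pi.sub_apply, Pi.smul_apply, smul_eq_mul] at hw h1
    exact one_ne_zero (α := F) (by linear_combination -hw + h1)
  have hd1 : dd (τ ![1, 0]) (τ ![0, 1]) = 1 := by rw [hdd]; simp [dd]
  refine ⟨⟨!![τ ![1, 0] 0, τ ![0, 1] 0; τ ![1, 0] 1, τ ![0, 1] 1], ?_⟩, fun q hq => ?_⟩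
  · rw [dd] at hd1
    rw [Matrix.det_fin_two]
    simp only [Matrix.of_apply, Matrix.cons_val', Matrix.cons_val_zero, Matrix.cons_val_one,
      Matrix.cons_val_fin_one, Matrix.empty_val']
    linear_combination hd1
  · rw [← hT q hq]
    generalize S.c q = v
    have hv : v = v 0 • ![1, 0] + v 1 • ![0, 1] := funext fun i => by fin_cases i <;> simp
    conv_lhs => rw [hv, hadd, hsmul, hsmul]
    funext i
    fin_cases i <;> simp [Matrix.mulVec, dotProduct, Fin.sum_univ_two] <;> ring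

/-- `Y` is trivial on `Q / W`. -/
theorem cY_trivOn : cY p E ≤ trivOn (pCoreOf p E) (omegaOneCenter p (pCoreOf p E)) := by
  classical
  set Q := pCoreOf p E with hQd
  set W := omegaOneCenter p Q with hWd
  set S := h.D.S2 with hSd
  set Y0 := cY p E ⊓ Subgroup.centralizer ((⁅Q, Q⁆ : Subgroup G) : Set G) with hY0
  have hEY0 : E ≤ Subgroup.normalizer (Y0 : Set G) :=
    Block.le_normalizer_inf (norm_cY Subgroup.le_normalizer)
      (SubnBlock.normalizer_centralizer (le_normalizer_comm (norm_Q Subgroup.le_normalizer)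
        (norm_Q Subgroup.le_normalizer)))
  have hconj : ∀ {y q : G}, y ∈ cY p E → q ∈ Q → y * q * y⁻¹ ∈ Q := fun hy hq =>
    (Subgroup.mem_normalizer_iff.1 hy.2 _).1 hq
  let L : Subgroup (Matrix.SpecialLinearGroup (Fin 2) F) :=
    { carrier := {g | ∃ y ∈ Y0, ∀ q ∈ Q, S.c (y * q * y⁻¹) = (g : Matrix (Fin 2) (Fin 2) F).mulVec (S.c q)}
      one_mem' := ⟨1, one_mem _, fun q hq => by simp⟩
      mul_mem' := by
        rintro g g' ⟨y, hy, hyg⟩ ⟨y', hy', hyg'⟩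
        refine ⟨y * y', mul_mem hy hy', fun q hq => ?_⟩
        rw [show y * y' * q * (y * y')⁻¹ = y * (y' * q * y'⁻¹) * y⁻¹ by group,
          hyg _ (hconj hy'.1 hq), hyg' q hq, act_mul_vec]
      inv_mem' := by
        rintro g ⟨y, hy, hyg⟩
        refine ⟨y⁻¹, inv_mem hy, fun q hq => ?_⟩
        have h1 := hyg _ (hconj (inv_mem hy.1) hq)
        rw [show y * (y⁻¹ * q * y⁻¹⁻¹) * y⁻¹ = q by group] at h1
        conv_rhs => rw [h1]
        exact (act_inv_vec _ _).symm }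
  have hLn : ∀ s ∈ commutator (Matrix.SpecialLinearGroup (Fin 2) F), ∀ g ∈ L, s * g * s⁻¹ ∈ L := by
    intro s hs g hg
    rw [← S.range] at hs
    obtain ⟨e, rfl⟩ := hs
    obtain ⟨y, hy, hyg⟩ := hg
    refine ⟨(e : G) * y * (e : G)⁻¹, (Subgroup.mem_normalizer_iff.1 (hEY0 e.2) y).1 hy, fun q hq => ?_⟩
    have hq' : ((e⁻¹ : ↥E) : G) * q * ((e⁻¹ : ↥E) : G)⁻¹ ∈ Q := S.toCoord.conj_mem (S.norm (e⁻¹).2) hq
    rw [show (e : G) * y * (e : G)⁻¹ * q * ((e : G) * y * (e : G)⁻¹)⁻¹ =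
      (e : G) * (y * (((e⁻¹ : ↥E) : G) * q * ((e⁻¹ : ↥E) : G)⁻¹) * y⁻¹) * (e : G)⁻¹ by push_cast; group,
      S.c_conj e _ (hconj hy.1 hq'), hyg _ hq', S.c_conj e⁻¹ q hq, map_inv, act_mul_vec, act_mul_vec]
  have hneg : (negOne : Matrix.SpecialLinearGroup (Fin 2) F) ∉ L := by
    rintro ⟨y, hy, hyg⟩
    have h1 := h.no_scalar hy.1 (s := -1) fun q hq => by rw [hyg q hq, negOne_act, neg_one_smul]
    exact two_ne h.three_eq (by linear_combination -h1)
  have hL := eq_bot_of_no_negOne h.three_eq h.D.three_le L hLn hneg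
  have htriv : ∀ y ∈ Y0, ∀ q ∈ Q, S.c (y * q * y⁻¹) = S.c q := fun y hy q hq => by
    obtain ⟨g, hg⟩ := h.exists_mat hy.1 hy.2
    have h1 : g ∈ L := ⟨y, hy, hg⟩
    rw [hL, Subgroup.mem_bot] at h1
    rw [hg q hq, h1]
    exact Matrix.one_mulVec _
  intro y hy
  have hyW : y ∈ Subgroup.normalizer (W : Set G) := normalizer_omega (le_refl _) hy.2
  have hyc : ∀ e : ↥E, ⁅y, (e : G)⁆ ∈ Y0 := fun e => by
    refine Subgroup.mem_inf.2 ⟨?_, ?_⟩
    · rw [commutatorElement_def, show y * (e : G) * y⁻¹ * (e : G)⁻¹ = y * ((e : G) * y⁻¹ * (e : G)⁻¹) by group]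
      exact mul_mem hy ((Subgroup.mem_normalizer_iff.1 (norm_cY Subgroup.le_normalizer e.2) _).1 (inv_mem hy))
    · refine Subgroup.mem_centralizer_iff.2 fun z hz => ?_
      have hz' := (Subgroup.mem_normalizer_iff''.1 (h.Q_norm_Z hy.2) z).1 hz
      have c1 : (e : G)⁻¹ * z = z * (e : G)⁻¹ := h.Z_cent hz (inv_mem e.2)
      have c2 : (e : G) * (y⁻¹ * z * y) = y⁻¹ * z * y * e := h.Z_cent hz' e.2
      rw [commutatorElement_def]
      calc z * (y * (e : G) * y⁻¹ * (e : G)⁻¹) = y * ((y⁻¹ * z * y) * (e : G)) * y⁻¹ * (e : G)⁻¹ := by group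
        _ = y * ((e : G) * (y⁻¹ * z * y)) * y⁻¹ * (e : G)⁻¹ := by rw [c2]
        _ = y * (e : G) * y⁻¹ * (z * (e : G)⁻¹) := by group
        _ = _ := by rw [← c1]; group
  obtain ⟨s, hs⟩ := S.semi_of_comm h.D.three_le hy.2 hyW fun e q hq => by
    have h1 := S.toCoord.conj_mem (S.norm e.2) (hconj hy hq)
    rw [← S.c_conj e _ (hconj hy hq), ← htriv _ (hyc e) _ h1]
    congr 1
    simp only [commutatorElement_def]
    group
  have h1 := h.no_scalar hy hs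
  refine ⟨hyW, fun q hq => ?_⟩
  rw [commutatorElement_def]
  refine (S.c_zero _ (mul_mem (hconj hy hq) (inv_mem hq))).1 ?_
  rw [S.c_mul _ (hconj hy hq) _ (inv_mem hq), S.c_inv hq, hs q hq, h1, one_smul, add_neg_cancel]

theorem cY_cent_W : cY p E ≤ Subgroup.centralizer (omegaOneCenter p (pCoreOf p E) : Set G) := by
  intro g hg
  have hgt := h.cY_trivOn hg
  set Q := pCoreOf p E with hQd
  have hd : ∀ a ∈ Q, ∃ w ∈ omegaOneCenter p Q, g * a * g⁻¹ = a * w := fun a ha => by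
    refine ⟨a⁻¹ * (g * a * g⁻¹), ?_, by group⟩
    rw [show a⁻¹ * (g * a * g⁻¹) = a⁻¹ * (⁅g, a⁆ * a) by rw [commutatorElement_def]; group,
      ← W_central ha (hgt.2 a ha), inv_mul_cancel_left]
    exact hgt.2 a ha
  have hZ : ⁅Q, Q⁆ ≤ Subgroup.centralizer {g} := Subgroup.commutator_le.2 fun a ha b hb => by
    obtain ⟨w, hw, e1⟩ := hd a ha
    obtain ⟨w', hw', e2⟩ := hd b hb
    refine Subgroup.mem_centralizer_singleton_iff.2 (mul_inv_eq_iff_eq_mul.1
      (fix_comm e1 e2 (W_central hb hw).symm (W_central (h.W_le hw) hw') (W_central ha hw').symm)).symm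
  refine Subgroup.mem_centralizer_iff.2 fun w hw => ?_
  obtain ⟨m, hm, z, hz, rfl⟩ := h.split hw
  have c1 : Commute g m := (Subgroup.mem_centralizer_iff.1 hg.1 m hm).symm
  have c2 : Commute g z := (Subgroup.mem_centralizer_singleton_iff.1 (hZ hz)).symm
  exact (c1.mul_right c2).eq.symm

/-- Elements of `Y` of order prime to `p` centralise `Q`. -/
theorem cY_cent {u : G} (hu : u ∈ cY p E) (hco : (orderOf u).Coprime p) :
    u ∈ Subgroup.centralizer (pCoreOf p E : Set G) :=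
  fix_step (isPGroup_omegaOneCenter _) hco (h.cY_trivOn hu) (h.cY_cent_W hu)

/-- `Y` normalises `E`. -/
theorem cY_norm : cY p E ≤ Subgroup.normalizer (E : Set G) := by
  refine normalizes_of_comm h.pre (norm_cY Subgroup.le_normalizer) (norm_cY (baumann_norm h.pre)) ?_
  have hET : E ≤ trivOn (cR p E) (pCoreOf p E) := fun e he =>
    ⟨h.D.S2.norm he, fun r hr => h.comm_mem_Q he hr⟩
  refine IsPGroup.to_le (K := cY p E ⊓ trivOn (cR p E) (pCoreOf p E)) ?_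
    (Subgroup.commutator_le.2 fun c hc e he => ?_)
  · refine isPGroup_of_coprime fun u hu hco => eq_one_of_cR h.hG h.hT h.pre ?_ hco
    exact fix_step h.Q_isPGroup hco (Subgroup.mem_inf.1 hu).2 (h.cY_cent (Subgroup.mem_inf.1 hu).1 hco)
  · refine Subgroup.mem_inf.2 ⟨?_, ?_⟩
    · rw [commutatorElement_def, show c * e * c⁻¹ * e⁻¹ = c * (e * c⁻¹ * e⁻¹) by group]
      exact mul_mem hc ((Subgroup.mem_normalizer_iff.1 (norm_cY Subgroup.le_normalizer he) _).1 (inv_mem hc))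
    · rw [commutatorElement_def]
      exact mul_mem (trivOn_conj (cM_norm_cR hc.1) hc.2 (hET he)) (inv_mem (hET he))

end Ctx

end Cfsg.Agent.LocalEven.BlockCentral
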