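import Cfsg.Agent.Lib.LocalEven.BlockCentral.Algebra
import Cfsg.Agent.Lib.LocalEven.BlockNormal.Quad
import Cfsg.Agent.Lib.Perm.CoprimeS3

/-!
# The `p`-core of the centraliser of the commutator module of a block
-/

set_option autoImplicit false

open scoped commutatorElement

namespace Cfsg.Agent.LocalEven.BlockCentral

open Cfsg Cfsg.Agent.Fusion Cfsg.Agent.LocalEven.Block Cfsg.Agent.LocalEven.SubnBlock
open Cfsg.Agent.LocalEven.BlockNormal

variable {G : Type*} [Group G] [Finite G] {p : ℕ} [hp : Fact p.Prime] {T : Sylow p G} {E : Subgroup G}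

variable (p) in
/-- The centraliser of `[W, E]`. -/
abbrev cM (E : Subgroup G) : Subgroup G := Subgroup.centralizer (mov p E : Set G)

variable (p) in
/-- Its `p`-core. -/
abbrev cR (E : Subgroup G) : Subgroup G := pCoreOf p (cM p E)

variable (p) in
/-- The part normalising `O_p(E)`. -/
abbrev cY (E : Subgroup G) : Subgroup G := cM p E ⊓ Subgroup.normalizer (pCoreOf p E : Set G)

theorem baumann_norm (hP : Pre p (T : Subgroup G) E) :
    baumannSubgroupOf p (T : Subgroup G) ≤ Subgroup.normalizer (E : Set G) :=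
  Subgroup.le_normalizer_iff_commutator_le_left.2 hP.baumann.le

theorem norm_Q {H : Subgroup G} (h : H ≤ Subgroup.normalizer (E : Set G)) :
    H ≤ Subgroup.normalizer (pCoreOf p E : Set G) := fun _ hg => mem_normalizer_Q (h hg)

theorem norm_W {H : Subgroup G} (h : H ≤ Subgroup.normalizer (E : Set G)) :
    H ≤ Subgroup.normalizer (omegaOneCenter p (pCoreOf p E) : Set G) := normalizer_omega (norm_Q h)

theorem norm_cM {H : Subgroup G} (h : H ≤ Subgroup.normalizer (E : Set G)) :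
    H ≤ Subgroup.normalizer (cM p E : Set G) :=
  SubnBlock.normalizer_centralizer (normalizer_mov (p := p) h)

theorem norm_cR {H : Subgroup G} (h : H ≤ Subgroup.normalizer (E : Set G)) :
    H ≤ Subgroup.normalizer (cR p E : Set G) := fun _ hg => mem_normalizer_Q (norm_cM h hg)

theorem norm_cY {H : Subgroup G} (h : H ≤ Subgroup.normalizer (E : Set G)) :
    H ≤ Subgroup.normalizer (cY p E : Set G) :=
  Block.le_normalizer_inf (norm_cM h) ((norm_Q h).trans Subgroup.le_normalizer)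

theorem cM_norm_cR : cM p E ≤ Subgroup.normalizer (cR p E : Set G) :=
  fun _ hg => mem_normalizer_Q (Subgroup.le_normalizer hg)

theorem cM_norm_mov : cM p E ≤ Subgroup.normalizer (mov p E : Set G) :=
  SubnBlock.le_normalizer_of_conj fun c hc x hx => by
    rw [← Subgroup.mem_centralizer_iff.1 hc x hx, mul_inv_cancel_right]; exact hx

theorem mov_cM : mov p E ≤ cM p E := fun x hx =>
  Subgroup.mem_centralizer_iff.2 fun y hy => omega_comm _ (mov_le E hy) _ (mov_le E hx)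

theorem cR_isPGroup : IsPGroup p ↥(cR p E) := Fusion.pCoreOf_isPGroup (p := p) _

theorem pCore_le_cR (hT : IsBaumannBlock p (T : Subgroup G) E) (hP : Pre p (T : Subgroup G) E) :
    pCore p G ≤ cR p E := by
  have h := normal_centralizes (R := pCore p G) T hT (Fusion.isPGroup_pCore p G)
  rw [hP.movEq] at h
  exact Fusion.le_pCoreOf (Subgroup.le_centralizer_iff.1 h)
    (fun g _ => mem_normalizer_pCore g) (Fusion.isPGroup_pCore p G)

theorem mov_le_cR (hT : IsBaumannBlock p (T : Subgroup G) E) (hP : Pre p (T : Subgroup G) E) :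
    mov p E ≤ cR p E := fun _ hx =>
  pCore_le_cR hT hP (omegaOneCenter_props (mov_le E hx)).1

theorem cent_cR (hG : Subgroup.centralizer (pCore p G : Set G) ≤ pCore p G)
    (hT : IsBaumannBlock p (T : Subgroup G) E) (hP : Pre p (T : Subgroup G) E) :
    Subgroup.centralizer (cR p E : Set G) ≤ cR p E :=
  ((Subgroup.centralizer_le (pCore_le_cR hT hP)).trans hG).trans (pCore_le_cR hT hP)

theorem cR_norm (hP : Pre p (T : Subgroup G) E) : cR p E ≤ Subgroup.normalizer (E : Set G) :=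
  pgroup_le_normalizer T hP.res hP.baumann cR_isPGroup (norm_cR (baumann_norm hP))
    (norm_cR Subgroup.le_normalizer)

theorem cR_comm (hP : Pre p (T : Subgroup G) E) : ⁅cR p E, E⁆ ≤ pCoreOf p E :=
  commutator_le_pCoreOf cR_isPGroup (norm_cR Subgroup.le_normalizer) (cR_norm hP)

theorem le_normalizer_comm {H A B : Subgroup G} (hA : H ≤ Subgroup.normalizer (A : Set G))
    (hB : H ≤ Subgroup.normalizer (B : Set G)) : H ≤ Subgroup.normalizer ((⁅A, B⁆ : Subgroup G) : Set G) := fun g hg => by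
  rw [Fusion.mem_normalizer_iff_cj, Fusion.cj_commutator, Fusion.cj_eq_self (hA hg),
    Fusion.cj_eq_self (hB hg)]

/-- A subgroup normalised by `E` and `B(T)` whose commutator with `E` is a `p`-group normalises `E`. -/
theorem normalizes_of_comm (hP : Pre p (T : Subgroup G) E) {X : Subgroup G}
    (hEX : E ≤ Subgroup.normalizer (X : Set G))
    (hBX : baumannSubgroupOf p (T : Subgroup G) ≤ Subgroup.normalizer (X : Set G))
    (hX : IsPGroup p ↥⁅X, E⁆) : X ≤ Subgroup.normalizer (E : Set G) := by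
  have hK := pgroup_le_normalizer T hP.res hP.baumann hX (le_normalizer_comm hBX (baumann_norm hP))
    (le_normalizer_comm hEX Subgroup.le_normalizer)
  intro c hc
  refine mem_normalizer_of_res hP.res hX hK fun e he => ?_
  rw [show c * e * c⁻¹ = ⁅c, e⁆ * e by rw [commutatorElement_def]; group]
  exact mul_mem (Subgroup.mem_sup_right (Subgroup.commutator_mem_commutator hc he))
    (Subgroup.mem_sup_left he)

/-- An element of order prime to `p` centralising `R` is trivial. -/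
theorem eq_one_of_cR (hG : Subgroup.centralizer (pCore p G : Set G) ≤ pCore p G)
    (hT : IsBaumannBlock p (T : Subgroup G) E) (hP : Pre p (T : Subgroup G) E) {u : G}
    (hu : u ∈ Subgroup.centralizer (cR p E : Set G)) (hco : (orderOf u).Coprime p) : u = 1 :=
  eq_one_of_centralizes hG (Subgroup.centralizer_le (pCore_le_cR hT hP) hu) hco

/-- The case in which `R` is trivial on `E` modulo `W`. -/
theorem main_plain (hG : Subgroup.centralizer (pCore p G : Set G) ≤ pCore p G)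
    (hT : IsBaumannBlock p (T : Subgroup G) E) (hP : Pre p (T : Subgroup G) E)
    (h : ⁅cR p E, E⁆ ≤ omegaOneCenter p (pCoreOf p E)) : cM p E ≤ Subgroup.normalizer (E : Set G) := by
  set W := omegaOneCenter p (pCoreOf p E) with hW
  have hWp : IsPGroup p ↥W := isPGroup_omegaOneCenter _
  have hEM : E ≤ Subgroup.normalizer (mov p E : Set G) := normalizer_mov Subgroup.le_normalizer
  have hWE : W ≤ E := fun w hw => Block.pCoreOf_le E (omegaOneCenter_props hw).1
  have hET : E ≤ trivOn (cR p E) (mov p E) :=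
    hP.res.ge.trans (Res.res_le fun e he hco => ⟨hEM he, fun r hr => by
      have hd : ⁅e, r⁆ ∈ W := commutatorElement_inv r e ▸ inv_mem (h (Subgroup.commutator_mem_commutator hr he))
      refine mem_of_twice hWp hco (hEM he) hd (hEM (hWE hd)) ?_
      exact commutatorElement_inv ⁅e, r⁆ e ▸ inv_mem
        (hP.movEq.le (Subgroup.commutator_mem_commutator hd he))⟩)
  refine normalizes_of_comm hP (norm_cM Subgroup.le_normalizer) (norm_cM (baumann_norm hP)) ?_
  refine IsPGroup.to_le (K := trivOn (cR p E) (mov p E) ⊓ cM p E) ?_ (Subgroup.commutator_le.2 fun c hc e he => ?_)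
  · refine isPGroup_of_coprime fun u hu hco => eq_one_of_cR hG hT hP ?_ hco
    exact fix_step ((isPGroup_omegaOneCenter _).to_le hP.movW) hco (Subgroup.mem_inf.1 hu).1
      (Subgroup.mem_inf.1 hu).2
  · refine Subgroup.mem_inf.2 ⟨?_, ?_⟩
    · rw [commutatorElement_def]
      exact mul_mem (trivOn_conj (cM_norm_cR hc) (cM_norm_mov hc) (hET he)) (inv_mem (hET he))
    · rw [commutatorElement_def, show c * e * c⁻¹ * e⁻¹ = c * (e * c⁻¹ * e⁻¹) by group]
      exact mul_mem hc ((Subgroup.mem_normalizer_iff.1 (norm_cM Subgroup.le_normalizer he) _).1 (inv_mem hc))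

/-- The data of the exceptional situation. -/
structure Ctx (p : ℕ) [Fact p.Prime] (T : Sylow p G) (E : Subgroup G) (F : Type) [Field F] [Fintype F] where
  hG : Subgroup.centralizer (pCore p G : Set G) ≤ pCore p G
  hT : IsBaumannBlock p (T : Subgroup G) E
  pre : Pre p (T : Subgroup G) E
  D : ExcD p (T : Subgroup G) E F
  QR : pCoreOf p E ≤ cR p E

namespace Ctx

variable {F : Type} [Field F] [Fintype F] (h : Ctx p T E F)
include h

theorem three_eq : (3 : F) = 0 := by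
  obtain ⟨n, hn⟩ := h.D.card
  haveI := NatSL2.charP_of_card hn
  have := CharP.cast_eq_zero F p
  rw [h.D.three] at this
  exact_mod_cast this

theorem Q_isPGroup : IsPGroup p ↥(pCoreOf p E) := Fusion.pCoreOf_isPGroup (p := p) E

theorem cube {w : G} (hw : w ∈ omegaOneCenter p (pCoreOf p E)) : w * w * w = 1 := by
  have h1 := (omegaOneCenter_props hw).2.2
  rwa [h.D.three, pow_succ, pow_two] at h1

/-- `W = [W, E] Z`. -/
theorem split {w : G} (hw : w ∈ omegaOneCenter p (pCoreOf p E)) :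
    ∃ m ∈ mov p E, ∃ z ∈ ⁅pCoreOf p E, pCoreOf p E⁆, w = m * z := by
  obtain ⟨m, hm, z, hz, rfl⟩ := mem_sup_abelian (A := mov p E)
    (B := omegaOneCenter p (pCoreOf p E) ⊓ Subgroup.centralizer (E : Set G))
    (fun a ha b hb => omega_comm _ hb.1 _ (h.pre.movW ha)) (h.pre.cover hw)
  exact ⟨m, hm, z, h.D.zeq.ge hz, rfl⟩

theorem Z_cent {z : G} (hz : z ∈ ⁅pCoreOf p E, pCoreOf p E⁆) {g : G} (hg : g ∈ E) : g * z = z * g :=
  Subgroup.mem_centralizer_iff.1 (h.D.zeq.le hz).2 g hg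

theorem Z_W {z : G} (hz : z ∈ ⁅pCoreOf p E, pCoreOf p E⁆) : z ∈ omegaOneCenter p (pCoreOf p E) :=
  (h.D.zeq.le hz).1

theorem comm_mem_Q {g r : G} (hg : g ∈ E) (hr : r ∈ cR p E) : ⁅g, r⁆ ∈ pCoreOf p E :=
  commutatorElement_inv r g ▸ inv_mem (cR_comm h.pre (Subgroup.commutator_mem_commutator hr hg))

/-- An element of order four lifting `(0 1; -1 0)`. -/
theorem exists_k : ∃ k : ↥E, h.D.S1.ρ k = jEl ∧ k ^ 4 = 1 := by
  obtain ⟨k₀, hk₀⟩ : (jEl : Matrix.SpecialLinearGroup (Fin 2) F) ∈ h.D.S1.ρ.range := by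
    rw [h.D.S1.range]; exact jEl_mem h.three_eq
  have hj4 : (jEl : Matrix.SpecialLinearGroup (Fin 2) F) ^ 4 = 1 := by
    rw [show (4 : ℕ) = 2 + 2 from rfl, pow_add, pow_two, jEl_sq]
    apply Subtype.ext
    show !![(-1 : F), 0; 0, -1] * !![-1, 0; 0, -1] = 1
    ext i j
    fin_cases i <;> fin_cases j <;> simp [Matrix.mul_apply, Fin.sum_univ_two]
  have hQ : ((k₀ ^ 4 : ↥E) : G) ∈ pCoreOf p E := (h.D.ker1 _).1 (by rw [map_pow, hk₀, hj4])
  obtain ⟨b, hb⟩ := h.Q_isPGroup ⟨_, hQ⟩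
  have hb' : ((k₀ ^ 4 : ↥E) : G) ^ p ^ b = 1 := congrArg Subtype.val hb
  refine ⟨k₀ ^ 9 ^ b, ?_, ?_⟩
  · rw [map_pow, hk₀, ← Nat.mod_add_div (9 ^ b) 4, pow_add, pow_mul, hj4, one_pow, mul_one,
      Nat.pow_mod, show (9 : ℕ) % 4 = 1 from rfl, one_pow]
    simp
  · apply Subtype.ext
    rw [h.D.three] at hb'
    push_cast at hb' ⊢
    rw [← pow_mul, mul_comm, pow_mul, show (9 : ℕ) ^ b = 3 ^ b * 3 ^ b by rw [← mul_pow]; norm_num, pow_mul,
      hb', one_pow]

/-- The chosen element of order four. -/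
noncomputable def k : ↥E := h.exists_k.choose

/-- Its square. -/
noncomputable def e : G := (h.k : G) * h.k

theorem k_rho : h.D.S1.ρ h.k = jEl := h.exists_k.choose_spec.1

theorem e_mem : h.e ∈ E := mul_mem h.k.2 h.k.2

theorem k_four : (h.k : G) * h.k * ((h.k : G) * h.k) = 1 := by
  have h1 : ((h.k ^ 4 : ↥E) : G) = 1 := by rw [Ctx.k, h.exists_k.choose_spec.2]; rfl
  rw [← h1]
  push_cast
  simp only [pow_succ, pow_zero, one_mul, mul_assoc]

theorem e_sq : h.e * h.e = 1 := h.k_four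

theorem e_inv : h.e⁻¹ = h.e := inv_eq_of_mul_eq_one_right h.e_sq

theorem k_e : (h.k : G) * h.e = h.e * h.k := by rw [Ctx.e]; group

theorem e_rho : h.D.S1.ρ ⟨h.e, h.e_mem⟩ = negOne := by
  rw [show (⟨h.e, h.e_mem⟩ : ↥E) = h.k * h.k from Subtype.ext rfl, map_mul, h.k_rho, jEl_sq]

theorem e_notQ : h.e ∉ pCoreOf p E := fun hq =>
  negOne_ne h.three_eq (h.e_rho.symm.trans ((h.D.ker1 _).2 hq))

theorem e_ne : h.e ≠ 1 := fun he => h.e_notQ (he ▸ one_mem _)

theorem e_order : orderOf h.e = 2 := orderOf_eq_prime (by rw [pow_two, h.e_sq]) h.e_ne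

theorem e_coprime : (orderOf h.e).Coprime p := by
  rw [h.e_order, h.D.three]; norm_num

theorem e_rho2 : h.D.S2.ρ ⟨h.e, h.e_mem⟩ = negOne := by
  set g := h.D.S2.ρ ⟨h.e, h.e_mem⟩ with hg
  have hg2 : g * g = 1 := by
    rw [hg, ← map_mul, show (⟨h.e, h.e_mem⟩ * ⟨h.e, h.e_mem⟩ : ↥E) = 1 from Subtype.ext h.e_sq, map_one]
  have hi : g⁻¹ = g := inv_eq_of_mul_eq_one_right hg2
  have hm := congrArg (fun M : Matrix.SpecialLinearGroup (Fin 2) F => (M : Matrix (Fin 2) (Fin 2) F)) hi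
  simp only [Matrix.SpecialLinearGroup.coe_inv, Matrix.adjugate_fin_two] at hm
  have e00 := congrFun (congrFun hm 0) 0
  have e01 := congrFun (congrFun hm 0) 1
  have e10 := congrFun (congrFun hm 1) 0
  simp at e00 e01 e10
  have h2 := two_ne h.three_eq
  have hb : (g : Matrix (Fin 2) (Fin 2) F) 0 1 = 0 := by
    refine (mul_eq_zero.1 (?_ : (2 : F) * _ = 0)).resolve_left h2
    linear_combination -e01
  have hc : (g : Matrix (Fin 2) (Fin 2) F) 1 0 = 0 := by
    refine (mul_eq_zero.1 (?_ : (2 : F) * _ = 0)).resolve_left h2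
    linear_combination -e10
  have hd := g.2
  rw [Matrix.det_fin_two, hb, hc, e00] at hd
  simp only [mul_zero, sub_zero] at hd
  rcases mul_self_eq_one_iff.1 hd with h1 | h1
  · exact absurd ((h.D.ker2 _).1 (show g = 1 by
      ext i j; fin_cases i <;> fin_cases j <;> simp [hb, hc, e00, h1])) h.e_notQ
  · ext i j; fin_cases i <;> fin_cases j <;> simp [negOne, hb, hc, e00, h1]

theorem c2_e {q : G} (hq : q ∈ pCoreOf p E) : h.D.S2.c (h.e * q * h.e⁻¹) = -h.D.S2.c q := by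
  rw [h.D.S2.c_conj ⟨h.e, h.e_mem⟩ q hq, h.e_rho2, negOne_act]

/-- `e` inverts `[W, E]`. -/
theorem e_mov : ∀ m ∈ mov p E, h.e * m * h.e⁻¹ = m⁻¹ := by
  have hn : ∀ {g : G}, g ∈ E → ∀ {x : G}, x ∈ mov p E → g * x * g⁻¹ ∈ mov p E := fun hg _ hx =>
    (Subgroup.mem_normalizer_iff.1 (h.D.S1.norm hg) _).1 hx
  have hmc : ∀ {a b : G}, a ∈ mov p E → b ∈ mov p E → a * b = b * a := fun ha hb =>
    omega_comm _ (mov_le E ha) _ (mov_le E hb)
  let K₀ : Subgroup G :=
    { carrier := {x | x ∈ mov p E ∧ h.e * x * h.e⁻¹ = x⁻¹}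
      one_mem' := ⟨one_mem _, by simp⟩
      mul_mem' := by
        rintro a b ⟨ha, ha'⟩ ⟨hb, hb'⟩
        refine ⟨mul_mem ha hb, ?_⟩
        rw [show h.e * (a * b) * h.e⁻¹ = (h.e * a * h.e⁻¹) * (h.e * b * h.e⁻¹) by group,
          ha', hb', mul_inv_rev, hmc (inv_mem ha) (inv_mem hb)]
      inv_mem' := by
        rintro a ⟨ha, ha'⟩
        refine ⟨inv_mem ha, ?_⟩
        rw [show h.e * a⁻¹ * h.e⁻¹ = (h.e * a * h.e⁻¹)⁻¹ by group, ha'] }
  suffices hle : mov p E ≤ K₀ from fun m hm => (hle hm).2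
  conv_lhs => rw [← h.pre.movX]
  refine Subgroup.commutator_le.2 fun x hx g hg => ⟨h.pre.movX.le (Subgroup.commutator_mem_commutator hx hg), ?_⟩
  have he0 := hn h.e_mem hx
  set z := x * (h.e * x * h.e⁻¹) with hz
  have hzc : z ∈ Subgroup.centralizer (E : Set G) := by
    refine (h.D.S1.c_zero _ (mul_mem hx he0)).1 ?_
    rw [h.D.S1.c_mul _ hx _ he0, h.D.S1.c_conj ⟨h.e, h.e_mem⟩ x hx, h.e_rho, negOne_act, add_neg_cancel]
  have hq : ⁅h.e, g⁆ ∈ pCoreOf p E := by
    refine (h.D.ker1 (⁅(⟨h.e, h.e_mem⟩ : ↥E), (⟨g, hg⟩ : ↥E)⁆)).1 ?_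
    rw [map_commutatorElement, commutatorElement_eq_one_iff_mul_comm, h.e_rho]
    apply Subtype.ext
    show !![-1, 0; 0, -1] * (h.D.S1.ρ ⟨g, hg⟩ : Matrix (Fin 2) (Fin 2) F) =
      (h.D.S1.ρ ⟨g, hg⟩ : Matrix (Fin 2) (Fin 2) F) * !![-1, 0; 0, -1]
    ext i j
    fin_cases i <;> fin_cases j <;> simp [Matrix.mul_apply, Fin.sum_univ_two]
  have h0m := hn h.e_mem (inv_mem hx)
  have hswap : h.e * (g * x⁻¹ * g⁻¹) * h.e⁻¹ = g * (h.e * x⁻¹ * h.e⁻¹) * g⁻¹ := by
    calc h.e * (g * x⁻¹ * g⁻¹) * h.e⁻¹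
        = ⁅h.e, g⁆ * (g * (h.e * x⁻¹ * h.e⁻¹) * g⁻¹) * ⁅h.e, g⁆⁻¹ := by
          simp only [commutatorElement_def]; group
      _ = _ := by
          rw [W_central hq (h.pre.movW (hn hg h0m)), mul_inv_cancel_right]
  have hc : h.e * x * h.e⁻¹ = x⁻¹ * z := by rw [hz]; group
  have hzE : g * z * g⁻¹ = z := by rw [Subgroup.mem_centralizer_iff.1 hzc g hg, mul_inv_cancel_right]
  calc h.e * ⁅x, g⁆ * h.e⁻¹ = (h.e * x * h.e⁻¹) * (h.e * (g * x⁻¹ * g⁻¹) * h.e⁻¹) := by
        simp only [commutatorElement_def]; group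
    _ = (x⁻¹ * z) * (g * (z⁻¹ * x) * g⁻¹) := by
        rw [hswap, hc, show h.e * x⁻¹ * h.e⁻¹ = (h.e * x * h.e⁻¹)⁻¹ by group, hc]
        group
    _ = x⁻¹ * (z * (g * z * g⁻¹)⁻¹) * (g * x * g⁻¹) := by group
    _ = x⁻¹ * (g * x * g⁻¹) := by rw [hzE, mul_inv_cancel, mul_one]
    _ = _ := by
        rw [hmc (inv_mem hx) (hn hg hx)]
        simp only [commutatorElement_def]; group

theorem mov_fixed {m : G} (hm : m ∈ mov p E) (hc : h.e * m = m * h.e) : m = 1 := by
  have h1 := h.e_mov m hm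
  rw [hc, mul_inv_cancel_right] at h1
  have h2 := h.cube (h.pre.movW hm)
  rwa [show m * m = 1 by nth_rewrite 1 [h1]; exact inv_mul_cancel m, one_mul] at h2

theorem mov_inf_cent : mov p E ⊓ Subgroup.centralizer (E : Set G) = ⊥ := by
  rw [Subgroup.eq_bot_iff_forall]
  exact fun m hm => h.mov_fixed hm.1 (Subgroup.mem_centralizer_iff.1 hm.2 _ h.e_mem)

theorem Q_fixed {q : G} (hq : q ∈ pCoreOf p E) (hc : h.e * q = q * h.e) :
    q ∈ ⁅pCoreOf p E, pCoreOf p E⁆ := by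
  have h1 := h.c2_e hq
  rw [hc, mul_inv_cancel_right] at h1
  have hW : q ∈ omegaOneCenter p (pCoreOf p E) := by
    refine (h.D.S2.c_zero q hq).1 (funext fun i => ?_)
    have h2 := congrFun h1 i
    simp only [Pi.neg_apply, Pi.zero_apply] at h2 ⊢
    refine (mul_eq_zero.1 (?_ : (2 : F) * _ = 0)).resolve_left (two_ne h.three_eq)
    linear_combination h2
  obtain ⟨m, hm, z, hz, rfl⟩ := h.split hW
  have hze : h.e * z = z * h.e := h.Z_cent hz h.e_mem
  have hme : h.e * m = m * h.e := by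
    have : h.e * m * z = m * h.e * z := by
      rw [mul_assoc, hc, mul_assoc, ← hze, ← mul_assoc]
    exact mul_right_cancel this
  rw [h.mov_fixed hm hme, one_mul]
  exact hz

/-- `Q` is generated by commutators of `e` with `R`. -/
theorem Q_eq : pCoreOf p E = Subgroup.closure {x | ∃ r ∈ cR p E, ⁅h.e, r⁆ = x} := by
  refine le_antisymm ?_ ((Subgroup.closure_le _).2 ?_)
  swap
  · rintro _ ⟨r, hr, rfl⟩; exact h.comm_mem_Q h.e_mem hr
  set L := Subgroup.closure {x | ∃ r ∈ cR p E, ⁅h.e, r⁆ = x} with hL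
  have hgen : ∀ r ∈ cR p E, ⁅h.e, r⁆ ∈ L := fun r hr => Subgroup.subset_closure ⟨r, hr, rfl⟩
  have hMR := mov_le_cR h.hT h.pre
  have hM : mov p E ≤ L := fun m hm => by
    have h1 := hgen m (hMR hm)
    rw [commutatorElement_def, h.e_mov m hm] at h1
    rwa [show m⁻¹ * m⁻¹ = m by
      rw [← mul_inv_rev, eq_comm, eq_inv_iff_mul_eq_one, ← mul_assoc, h.cube (h.pre.movW hm)]] at h1
  have hq : ∀ q ∈ pCoreOf p E, q⁻¹ * ⁅h.e, q⁆ ∈ omegaOneCenter p (pCoreOf p E) := fun q hq => by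
    have hm := h.comm_mem_Q h.e_mem (h.QR hq)
    refine (h.D.S2.c_zero _ (mul_mem (inv_mem hq) hm)).1 ?_
    rw [h.D.S2.c_mul _ (inv_mem hq) _ hm, commutatorElement_def,
      h.D.S2.c_mul _ ((Subgroup.mem_normalizer_iff.1 (h.D.S2.norm h.e_mem) q).1 hq) _ (inv_mem hq),
      h.c2_e hq, h.D.S2.c_inv hq]
    funext i
    simp only [Pi.add_apply, Pi.neg_apply, Pi.zero_apply]
    linear_combination -h.D.S2.c q i * h.three_eq
  have hZ : ⁅pCoreOf p E, pCoreOf p E⁆ ≤ L := Subgroup.commutator_le.2 fun a ha b hb => by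
    have ha' := hgen a (h.QR ha)
    have hb' := hgen b (h.QR hb)
    obtain ⟨w, hw, e1⟩ : ∃ w ∈ omegaOneCenter p (pCoreOf p E), ⁅h.e, a⁆ = a * w := ⟨_, hq a ha, by group⟩
    obtain ⟨w', hw', e2⟩ : ∃ w ∈ omegaOneCenter p (pCoreOf p E), ⁅h.e, b⁆ = b * w := ⟨_, hq b hb, by group⟩
    have e3 : ⁅⁅h.e, a⁆, ⁅h.e, b⁆⁆ = ⁅a, b⁆ := by
      rw [e1, e2, commutatorElement_def, commutatorElement_def]
      have c1 : w * (b * w') * w⁻¹ = b * w' := by
        rw [← W_central (mul_mem hb (omegaOneCenter_props hw').1) hw, mul_inv_cancel_right]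
      have c2 : w' * a⁻¹ * w'⁻¹ = a⁻¹ := by
        rw [← W_central (inv_mem ha) hw', mul_inv_cancel_right]
      calc a * w * (b * w') * (a * w)⁻¹ * (b * w')⁻¹ = a * (w * (b * w') * w⁻¹) * a⁻¹ * w'⁻¹ * b⁻¹ := by group
        _ = a * b * (w' * a⁻¹ * w'⁻¹) * b⁻¹ := by rw [c1]; group
        _ = _ := by rw [c2]
    rw [← e3, commutatorElement_def]
    exact mul_mem (mul_mem (mul_mem ha' hb') (inv_mem ha')) (inv_mem hb')
  intro q hq'
  have hW : q⁻¹ * ⁅h.e, q⁆ ∈ L := by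
    obtain ⟨m, hm, z, hz, e1⟩ := h.split (hq q hq')
    rw [e1]; exact mul_mem (hM hm) (hZ hz)
  have := mul_mem (hgen q (h.QR hq')) (inv_mem hW)
  rwa [show ⁅h.e, q⁆ * (q⁻¹ * ⁅h.e, q⁆)⁻¹ = q by group] at this

theorem mem_cY_of_comm {y : G} (hy : y ∈ cM p E) (hc : h.e * y = y * h.e) : y ∈ cY p E := by
  refine Subgroup.mem_inf.2 ⟨hy, ?_⟩
  have hle : Subgroup.zpowers y ≤ Subgroup.normalizer (pCoreOf p E : Set G) := by
    refine SubnBlock.le_normalizer_of_conj fun g hg x hx => ?_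
    obtain ⟨hgC, hgc⟩ : g ∈ cM p E ∧ Commute h.e g := by
      obtain ⟨i, rfl⟩ := Subgroup.mem_zpowers_iff.1 hg
      exact ⟨zpow_mem hy i, Commute.zpow_right hc i⟩
    rw [h.Q_eq] at hx ⊢
    refine (Subgroup.closure_le (K := (Subgroup.closure {x | ∃ r ∈ cR p E, ⁅h.e, r⁆ = x}).comap
      (MulAut.conj g).toMonoidHom)).2 ?_ hx
    rintro _ ⟨r, hr, rfl⟩
    refine Subgroup.subset_closure ⟨g * r * g⁻¹, (Subgroup.mem_normalizer_iff.1 (cM_norm_cR hgC) r).1 hr, ?_⟩
    show ⁅h.e, g * r * g⁻¹⁆ = g * ⁅h.e, r⁆ * g⁻¹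
    rw [← MulAut.conj_apply, ← MulAut.conj_apply, map_commutatorElement, MulAut.conj_apply g h.e,
      ← hgc.eq, mul_inv_cancel_right]
  exact hle (Subgroup.mem_zpowers y)

/-- `R = C_R(e) Q`. -/
theorem decomp {r : G} (hr : r ∈ cR p E) :
    ∃ r₀ ∈ cR p E, h.e * r₀ = r₀ * h.e ∧ ∃ q ∈ pCoreOf p E, r = r₀ * q := by
  haveI : Fact (Nat.Prime 2) := ⟨Nat.prime_two⟩
  have hn : ¬ 2 ∣ Nat.card ↥(pCoreOf p E) := by
    obtain ⟨j, hj⟩ := IsPGroup.iff_card.1 h.Q_isPGroup
    rw [hj, h.D.three]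
    exact fun hd => absurd (Nat.prime_two.dvd_of_dvd_pow hd) (by norm_num)
  obtain ⟨n, hn, hfix⟩ := Perm.S3Fpf.exists_fixed_coset (MulAut.conj h.e) (p := 2) (fun x => by
      show h.e * (h.e * x * h.e⁻¹) * h.e⁻¹ = x
      rw [h.e_inv, show h.e * (h.e * x * h.e) * h.e = (h.e * h.e) * x * (h.e * h.e) by group, h.e_sq,
        one_mul, mul_one])
    (pCoreOf p E) (fun n hn => (Subgroup.mem_normalizer_iff.1 (h.D.S2.norm h.e_mem) n).1 hn) hn
    (g := r) (by
      show r⁻¹ * (h.e * r * h.e⁻¹) ∈ _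
      rw [show r⁻¹ * (h.e * r * h.e⁻¹) = r⁻¹ * ⁅h.e, r⁆ * r⁻¹⁻¹ by rw [commutatorElement_def]; group]
      exact (Subgroup.mem_normalizer_iff.1 (norm_Q (cR_norm h.pre) (inv_mem hr)) _).1 (h.comm_mem_Q h.e_mem hr))
  refine ⟨r * n, mul_mem hr (h.QR hn), ?_, n⁻¹, inv_mem hn, by group⟩
  exact mul_inv_eq_iff_eq_mul.1 hfix

theorem k_fix {r : G} (hr : r ∈ cR p E) (hc : h.e * r = r * h.e) : (h.k : G) * r = r * h.k := by
  set d := ⁅(h.k : G), r⁆ with hd
  have hdQ : d ∈ pCoreOf p E := h.comm_mem_Q h.k.2 hr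
  have hde : h.e * d = d * h.e := by
    have c1 : Commute h.e (h.k : G) := h.k_e.symm
    have c2 : Commute h.e r := hc
    rw [hd, commutatorElement_def]
    exact (((c1.mul_right c2).mul_right c1.inv_right).mul_right c2.inv_right).eq
  have hdZ := h.Q_fixed hdQ hde
  have hb : ∀ y : G, y ∈ Subgroup.normalizer ((⊥ : Subgroup G) : Set G) := fun y =>
    Subgroup.mem_normalizer_iff.2 fun z => by simp
  have hco : (orderOf (h.k : G)).Coprime p := by
    refine Nat.Coprime.coprime_dvd_left (orderOf_dvd_of_pow_eq_one (n := 4) ?_) (by rw [h.D.three]; norm_num)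
    rw [← h.k_four]; simp only [pow_succ, pow_zero, one_mul, mul_assoc]
  have h1 := mem_of_twice (P := ⊥) h.Q_isPGroup hco (hb _) hdQ (hb _) (by
    rw [Subgroup.mem_bot, commutatorElement_eq_one_iff_mul_comm]
    exact h.Z_cent hdZ h.k.2)
  rwa [Subgroup.mem_bot, commutatorElement_eq_one_iff_mul_comm] at h1

end Ctx

end Cfsg.Agent.LocalEven.BlockCentral
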