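import Cfsg.Agent.Lib.LocalEven.BlockCentral.Scalar

/-!
# Subgroups of order prime to six centralising the commutator module
-/

set_option autoImplicit false

open scoped commutatorElement

namespace Cfsg.Agent.LocalEven.BlockCentral

open Cfsg Cfsg.Agent.Fusion Cfsg.Agent.LocalEven.Block Cfsg.Agent.LocalEven.SubnBlock
open Cfsg.Agent.LocalEven.BlockNormal

variable {G : Type*} [Group G] [Finite G] {p : ℕ} [hp : Fact p.Prime] {T : Sylow p G} {E : Subgroup G}
  {F : Type} [Field F] [Fintype F]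

theorem coprime_of_rgroup {r : ℕ} [hr : Fact r.Prime] {P : Subgroup G} (hP : IsPGroup r P) {z : G} (hz : z ∈ P)
    (hrp : r ≠ p) : (orderOf z).Coprime p := by
  obtain ⟨j, hj⟩ := hP ⟨z, hz⟩
  exact Nat.Coprime.coprime_dvd_left (orderOf_dvd_of_pow_eq_one (congrArg Subtype.val hj))
    (((Nat.coprime_primes hr.out hp.out).2 hrp).pow_left j)

namespace Ctx

variable (h : Ctx p T E F)
include h

theorem k_norm_cR : (h.k : G) ∈ Subgroup.normalizer (cR p E : Set G) := norm_cR Subgroup.le_normalizer h.k.2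

theorem e_conj_conj (a : G) : (h.k : G) * ((h.k : G) * a * (h.k : G)⁻¹) * (h.k : G)⁻¹ = h.e * a * h.e⁻¹ := by
  rw [Ctx.e]; group

/-- An inverted abelian group of order prime to six is trivial. -/
theorem inverted_trivial {r : ℕ} [hr : Fact r.Prime] (hr2 : r ≠ 2) (hrp : r ≠ p) {A : Subgroup G}
    (hA : IsPGroup r A) (hAC : A ≤ cM p E) (hab : ∀ a ∈ A, ∀ b ∈ A, a * b = b * a)
    (hk : ∀ a ∈ A, (h.k : G) * a * (h.k : G)⁻¹ ∈ A) (hinv : ∀ a ∈ A, h.e * a * h.e⁻¹ = a⁻¹) :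
    A = ⊥ := by
  classical
  haveI : Fact (Nat.Prime 2) := ⟨Nat.prime_two⟩
  set R := cR p E with hRd
  have hRp : IsPGroup p ↥R := cR_isPGroup
  set Φ := frattini ↥R with hΦd
  haveI : Φ.Normal := inferInstance
  letI iQ : CommGroup (↥R ⧸ Φ) := { (inferInstance : Group (↥R ⧸ Φ)) with
    mul_comm := fun a b => by
      induction a using QuotientGroup.induction_on with
      | _ a =>
        induction b using QuotientGroup.induction_on with
        | _ b =>
          rw [← QuotientGroup.mk_mul, ← QuotientGroup.mk_mul, QuotientGroup.eq]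
          have := Solv.commutatorElement_mem_frattini hRp b⁻¹ a⁻¹
          rwa [show (a * b)⁻¹ * (b * a) = ⁅b⁻¹, a⁻¹⁆ by simp only [commutatorElement_def]; group] }
  letI iA : CommGroup ↥A := { (inferInstance : Group ↥A) with
    mul_comm := fun a b => Subtype.ext (hab _ a.2 _ b.2) }
  set N := Subgroup.normalizer (R : Set G) with hNd
  have hΦ : ∀ g : ↥N, Φ ≤ Φ.comap (Subgroup.normalizerMonoidHom R g).toMonoidHom := fun g =>
    (Subgroup.characteristic_iff_le_comap.1 (inferInstance : (frattini ↥R).Characteristic)) _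
  let θ : ↥N →* AddMonoid.End (Additive (↥R ⧸ Φ)) :=
    { toFun := fun g => MonoidHom.toAdditive (QuotientGroup.map _ _ _ (hΦ g))
      map_one' := AddMonoidHom.ext fun x => by
        obtain ⟨u, hu⟩ := QuotientGroup.mk_surjective (Additive.toMul x)
        obtain rfl : Additive.ofMul ((u : ↥R) : ↥R ⧸ Φ) = x := by rw [hu]; rfl
        refine congrArg (fun w : ↥R => Additive.ofMul ((w : ↥R) : ↥R ⧸ Φ)) (Subtype.ext ?_)
        show (1 : G) * u * (1 : G)⁻¹ = u
        group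
      map_mul' := fun g g' => AddMonoidHom.ext fun x => by
        obtain ⟨u, hu⟩ := QuotientGroup.mk_surjective (Additive.toMul x)
        obtain rfl : Additive.ofMul ((u : ↥R) : ↥R ⧸ Φ) = x := by rw [hu]; rfl
        refine congrArg (fun w : ↥R => Additive.ofMul ((w : ↥R) : ↥R ⧸ Φ)) (Subtype.ext ?_)
        show ((g : G) * g') * u * ((g : G) * g')⁻¹ = (g : G) * ((g' : G) * u * (g' : G)⁻¹) * (g : G)⁻¹
        group }
  have hθ : ∀ (g : ↥N) (u : ↥R), θ g (Additive.ofMul (u : ↥R ⧸ Φ)) =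
      Additive.ofMul (((Subgroup.normalizerMonoidHom R g) u : ↥R) : ↥R ⧸ Φ) := fun g u => rfl
  have hkN := h.k_norm_cR
  set kk : ↥N := ⟨h.k, hkN⟩ with hkk
  have hAN : A ≤ N := hAC.trans cM_norm_cR
  let U : ↥A →* AddMonoid.End (Additive (↥R ⧸ Φ)) := θ.comp (Subgroup.inclusion hAN)
  let φ : ↥A →* ↥A := MonoidHom.mk' (fun a => ⟨(h.k : G) * a * (h.k : G)⁻¹, hk a a.2⟩) fun a b =>
    Subtype.ext (by push_cast; group)
  have hcube : ∀ x : Additive (↥R ⧸ Φ), 3 • x = 0 := fun x => by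
    obtain ⟨u, hu⟩ := QuotientGroup.mk_surjective (Additive.toMul x)
    have h1 := Solv.pow_mem_frattini hRp u
    rw [h.D.three] at h1
    refine Additive.toMul.injective ?_
    rw [toMul_nsmul, ← hu, ← QuotientGroup.mk_pow]
    exact (QuotientGroup.eq_one_iff _).2 h1
  obtain ⟨j, hj⟩ := IsPGroup.iff_card.1 hA
  have hA2 : (Nat.card ↥A).Coprime 2 := hj ▸ ((Nat.coprime_primes hr.out Nat.prime_two).2 hr2).pow_left j
  have hA3 : (Nat.card ↥A).Coprime 3 := by
    rw [← h.D.three]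
    exact hj ▸ ((Nat.coprime_primes hr.out hp.out).2 hrp).pow_left j
  have hφ : ∀ a, φ (φ a) = a⁻¹ := fun a => Subtype.ext ((h.e_conj_conj a).trans (hinv a a.2))
  have hfix : ∀ x : Additive (↥R ⧸ Φ), θ kk (x + θ kk (θ kk x)) = x + θ kk (θ kk x) := fun x => by
    obtain ⟨u, hu⟩ := QuotientGroup.mk_surjective (Additive.toMul x)
    obtain rfl : Additive.ofMul ((u : ↥R) : ↥R ⧸ Φ) = x := by rw [hu]; rfl
    rw [hθ, hθ]
    set u' := Subgroup.normalizerMonoidHom R kk (Subgroup.normalizerMonoidHom R kk u) with hu'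
    have hu'v : (u' : G) = h.e * u * h.e⁻¹ := h.e_conj_conj u
    rw [← ofMul_mul, ← QuotientGroup.mk_mul, hθ]
    set v : ↥R := u * u' with hv
    -- a fixed representative
    have hΦG : ∀ n ∈ Φ.map R.subtype, MulAut.conj h.e n ∈ Φ.map R.subtype := by
      rintro _ ⟨n, hn, rfl⟩
      exact ⟨_, hΦ ⟨h.e, norm_cR Subgroup.le_normalizer h.e_mem⟩ hn, rfl⟩
    have hnd : ¬ 2 ∣ Nat.card ↥(Φ.map R.subtype) := by
      obtain ⟨i, hi⟩ := IsPGroup.iff_card.1 ((hRp.to_subgroup Φ).map R.subtype)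
      rw [hi, h.D.three]
      exact fun hd => absurd (Nat.prime_two.dvd_of_dvd_pow hd) (by norm_num)
    obtain ⟨n, hn, hnfix⟩ := Perm.S3Fpf.exists_fixed_coset (MulAut.conj h.e) (p := 2) (fun y => by
        show h.e * (h.e * y * h.e⁻¹) * h.e⁻¹ = y
        rw [h.e_inv, show h.e * (h.e * y * h.e) * h.e = (h.e * h.e) * y * (h.e * h.e) by group, h.e_sq,
          one_mul, mul_one])
      (Φ.map R.subtype) hΦG hnd (g := (v : G)) (by
        refine ⟨⁅u'⁻¹, u⁻¹⁆, Solv.commutatorElement_mem_frattini hRp _ _, ?_⟩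
        show ((⁅u'⁻¹, u⁻¹⁆ : ↥R) : G) = (v : G)⁻¹ * (h.e * (v : G) * h.e⁻¹)
        have e2 : h.e * (h.e * u * h.e⁻¹) * h.e⁻¹ = (u : G) := by
          rw [h.e_inv, show h.e * (h.e * u * h.e) * h.e = (h.e * h.e) * u * (h.e * h.e) by group, h.e_sq,
            one_mul, mul_one]
        rw [hv, Subgroup.coe_mul, show h.e * ((u : G) * (u' : G)) * h.e⁻¹ =
          (h.e * u * h.e⁻¹) * (h.e * u' * h.e⁻¹) by group, hu'v, e2]
        simp only [commutatorElement_def]
        push_cast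
        rw [hu'v]
        group)
    obtain ⟨n', hn', rfl⟩ := hn
    have hcomm : h.e * ((v : G) * n') = (v : G) * n' * h.e := mul_inv_eq_iff_eq_mul.1 hnfix
    have hw := h.k_fix (r := (v : G) * n') (mul_mem v.2 n'.2) hcomm
    have hwfix : Subgroup.normalizerMonoidHom R kk (v * n') = v * n' := Subtype.ext (by
      show (h.k : G) * ((v : G) * n') * (h.k : G)⁻¹ = (v : G) * n'
      rw [hw, mul_inv_cancel_right])
    have hmk : ((v * n' : ↥R) : ↥R ⧸ Φ) = (v : ↥R ⧸ Φ) := QuotientGroup.mk_mul_of_mem v hn'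
    refine congrArg Additive.ofMul ?_
    rw [← hmk]
    conv_rhs => rw [← hwfix]
    rw [map_mul (Subgroup.normalizerMonoidHom R kk) v n']
    exact (QuotientGroup.mk_mul_of_mem (s := Φ) (Subgroup.normalizerMonoidHom R kk v)
      (show Subgroup.normalizerMonoidHom R kk n' ∈ Φ from hΦ kk hn')).symm
  have hT : θ kk ^ 3 - θ kk ^ 2 + θ kk - 1 = 0 := AddMonoidHom.ext fun x => by
    have h1 := hfix x
    rw [map_add] at h1
    show θ kk (θ kk (θ kk x)) - θ kk (θ kk x) + θ kk x - x = 0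
    rw [show θ kk (θ kk (θ kk x)) - θ kk (θ kk x) + θ kk x - x =
      θ kk x + θ kk (θ kk (θ kk x)) - (x + θ kk (θ kk x)) by abel, h1, sub_self]
  have htw := twist_trivial hcube hA2 hA3 φ hφ U (θ kk) (θ kk⁻¹)
    (by rw [← map_mul, mul_inv_cancel, map_one]) hT fun a => by
      show θ kk * θ _ = θ _ * θ kk
      rw [← map_mul, ← map_mul]
      congr 1
      refine Subtype.ext ?_
      show (h.k : G) * (a : G) = (h.k : G) * a * (h.k : G)⁻¹ * h.k
      group
  rw [Subgroup.eq_bot_iff_forall]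
  intro a ha
  have hco := coprime_of_rgroup (p := p) hA ha hrp
  refine eq_one_of_cR h.hG h.hT h.pre ?_ hco
  refine Solv.centralizes_of_frattini R hRp a (hAN ha) hco fun x hx => ?_
  have h1 : θ ⟨a, hAN ha⟩ = 1 := htw ⟨a, ha⟩
  have h2 := congrArg (fun f : AddMonoid.End (Additive (↥R ⧸ Φ)) =>
    f (Additive.ofMul ((⟨x, hx⟩ : ↥R) : ↥R ⧸ Φ))) h1
  rw [hθ, show (1 : AddMonoid.End (Additive (↥R ⧸ Φ))) (Additive.ofMul ((⟨x, hx⟩ : ↥R) : ↥R ⧸ Φ)) =
    Additive.ofMul ((⟨x, hx⟩ : ↥R) : ↥R ⧸ Φ) from rfl] at h2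
  have h3 := (inferInstance : Φ.Normal).conj_mem _ (inv_mem (QuotientGroup.eq.1 (Additive.ofMul.injective h2).symm))
    (⟨x, hx⟩ : ↥R)
  refine ⟨_, h3, ?_⟩
  show x * (x⁻¹ * (a * x * a⁻¹))⁻¹ * x⁻¹ = ⁅x, a⁆
  rw [commutatorElement_def]
  group

/-- An invariant `r`-subgroup of the centraliser commutes with `e`. -/
theorem rgroup_cent {r : ℕ} [hr : Fact r.Prime] (hr2 : r ≠ 2) (hrp : r ≠ p) :
    ∀ (n : ℕ) (P : Subgroup G), Nat.card P = n → IsPGroup r P → P ≤ cM p E →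
      (h.k : G) ∈ Subgroup.normalizer (P : Set G) → P ≤ Subgroup.centralizer {h.e} := by
  intro n
  induction n using Nat.strong_induction_on with
  | _ n ih =>
  intro P hn hP hPC hkP
  have hb : ∀ y : G, y ∈ Subgroup.normalizer ((⊥ : Subgroup G) : Set G) := fun y =>
    Subgroup.mem_normalizer_iff.2 fun z => by simp
  have heP : h.e ∈ Subgroup.normalizer (P : Set G) := mul_mem hkP hkP
  set A := Subgroup.zpowers h.e with hA
  have hP1 : ⁅A, P⁆ ≤ P := Subgroup.le_normalizer_iff_commutator_le_right.1 (Subgroup.zpowers_le.2 heP)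
  have hP1n : P ≤ Subgroup.normalizer ((⁅A, P⁆ : Subgroup G) : Set G) := Subgroup.normalizer_commutator_ge_right _ _
  have hkA : (h.k : G) ∈ Subgroup.normalizer (A : Set G) := by
    rw [Fusion.mem_normalizer_iff_cj]
    show (Subgroup.zpowers h.e).map (MulAut.conj (h.k : G)).toMonoidHom = _
    rw [MonoidHom.map_zpowers]
    congr 1
    show (h.k : G) * h.e * (h.k : G)⁻¹ = h.e
    rw [h.k_e, mul_inv_cancel_right]
  have hkP1 : (h.k : G) ∈ Subgroup.normalizer ((⁅A, P⁆ : Subgroup G) : Set G) :=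
    le_normalizer_comm (H := Subgroup.zpowers (h.k : G)) (Subgroup.zpowers_le.2 hkA)
      (Subgroup.zpowers_le.2 hkP) (Subgroup.mem_zpowers _)
  by_cases heq : ⁅A, P⁆ = P
  swap
  · have hlt : Nat.card ↥⁅A, P⁆ < n := by
      rw [← hn]
      exact lt_of_le_of_ne (Subgroup.card_le_of_le hP1)
        fun hc => heq (Subgroup.eq_of_le_of_card_ge hP1 hc.ge)
    have h1 := ih _ hlt _ rfl (hP.to_le hP1) (hP1.trans hPC) hkP1
    intro x hx
    have hd : ⁅h.e, x⁆ ∈ ⁅A, P⁆ := Subgroup.commutator_mem_commutator (Subgroup.mem_zpowers _) hx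
    have h2 := mem_of_twice (P := ⊥) (hP.to_le hP1)
      (by rw [h.e_order]; exact (Nat.coprime_primes Nat.prime_two hr.out).2 (Ne.symm hr2)) (hb _) hd (hb _) (by
        rw [Subgroup.mem_bot, commutatorElement_eq_one_iff_mul_comm]
        exact (Subgroup.mem_centralizer_singleton_iff.1 (h1 hd)).symm)
    rw [Subgroup.mem_bot, commutatorElement_eq_one_iff_mul_comm] at h2
    exact Subgroup.mem_centralizer_singleton_iff.2 h2.symm
  -- `P = [P, e]`
  suffices hbot : P = ⊥ by rw [hbot]; exact bot_le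
  set S : Set G := {y | ∃ x ∈ P, ∃ q ∈ pCoreOf p E, x * q * x⁻¹ = y} with hS
  set R1 := Subgroup.closure S with hR1
  have hgen : ∀ x ∈ P, ∀ q ∈ pCoreOf p E, x * q * x⁻¹ ∈ R1 := fun x hx q hq =>
    Subgroup.subset_closure ⟨x, hx, q, hq, rfl⟩
  have hR1R : R1 ≤ cR p E := (Subgroup.closure_le _).2 (by
    rintro _ ⟨x, hx, q, hq, rfl⟩
    exact (Subgroup.mem_normalizer_iff.1 (cM_norm_cR (hPC hx)) q).1 (h.QR hq))
  have hnorm : ∀ g : G, (∀ x ∈ P, ∀ q ∈ pCoreOf p E, g * (x * q * x⁻¹) * g⁻¹ ∈ R1) →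
      g ∈ Subgroup.normalizer (R1 : Set G) := fun g hg =>
    Fusion.mem_normalizer_of_cj_le (Subgroup.map_le_iff_le_comap.2 ((Subgroup.closure_le _).2 (by
      rintro _ ⟨x, hx, q, hq, rfl⟩; exact hg x hx q hq)))
  have hPR1 : P ≤ Subgroup.normalizer (R1 : Set G) := fun g hg => hnorm g fun x hx q hq => by
    rw [show g * (x * q * x⁻¹) * g⁻¹ = (g * x) * q * (g * x)⁻¹ by group]
    exact hgen _ (mul_mem hg hx) q hq
  have heR1 : h.e ∈ Subgroup.normalizer (R1 : Set G) := hnorm h.e fun x hx q hq => by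
    rw [show h.e * (x * q * x⁻¹) * h.e⁻¹ =
      (h.e * x * h.e⁻¹) * (h.e * q * h.e⁻¹) * (h.e * x * h.e⁻¹)⁻¹ by group]
    exact hgen _ ((Subgroup.mem_normalizer_iff.1 heP x).1 hx) _
      ((Subgroup.mem_normalizer_iff.1 (h.D.S2.norm h.e_mem) q).1 hq)
  have hQR1 : pCoreOf p E ≤ R1 := fun q hq => by simpa using hgen 1 (one_mem _) q hq
  have hAT : A ≤ trivOn (cR p E) R1 := Subgroup.zpowers_le.2
    ⟨heR1, fun r hr => hQR1 (h.comm_mem_Q h.e_mem hr)⟩
  have hPT : P ≤ trivOn (cR p E) R1 := by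
    conv_lhs => rw [← heq]
    refine Subgroup.commutator_le.2 fun a ha x hx => ?_
    rw [commutatorElement_def, show a * x * a⁻¹ * x⁻¹ = a * (x * a⁻¹ * x⁻¹) by group]
    exact mul_mem (hAT ha) (trivOn_conj (cM_norm_cR (hPC hx)) (hPR1 hx) (inv_mem (hAT ha)))
  set ZP := P ⊓ Subgroup.centralizer (P : Set G) with hZP
  have hZc : ∀ {a b : G}, a ∈ ZP → b ∈ ZP → a * b = b * a := fun ha hb' =>
    (Subgroup.mem_centralizer_iff.1 ha.2 _ hb'.1).symm
  have hnZP : ∀ {g : G}, g ∈ Subgroup.normalizer (P : Set G) → ∀ {a : G}, a ∈ ZP → g * a * g⁻¹ ∈ ZP :=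
    fun hg _ ha => (Subgroup.mem_normalizer_iff.1 (Block.le_normalizer_inf (le_refl _)
      (SubnBlock.normalizer_centralizer (le_refl _)) hg) _).1 ha
  let I : Subgroup G :=
    { carrier := {a | a ∈ ZP ∧ h.e * a * h.e⁻¹ = a⁻¹}
      one_mem' := ⟨one_mem _, by simp⟩
      mul_mem' := by
        rintro a b ⟨ha, ha'⟩ ⟨hb', hb''⟩
        refine ⟨mul_mem ha hb', ?_⟩
        rw [show h.e * (a * b) * h.e⁻¹ = (h.e * a * h.e⁻¹) * (h.e * b * h.e⁻¹) by group, ha', hb'',
          mul_inv_rev, hZc (inv_mem ha) (inv_mem hb')]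
      inv_mem' := by
        rintro a ⟨ha, ha'⟩
        refine ⟨inv_mem ha, ?_⟩
        rw [show h.e * a⁻¹ * h.e⁻¹ = (h.e * a * h.e⁻¹)⁻¹ by group, ha'] }
  have hI : I = ⊥ := by
    refine h.inverted_trivial hr2 hrp (hP.to_le fun a ha => ha.1.1) (fun a ha => hPC ha.1.1)
      (fun a ha b hb' => hZc ha.1 hb'.1) (fun a ha => ⟨hnZP hkP ha.1, ?_⟩) fun a ha => ha.2
    calc h.e * ((h.k : G) * a * (h.k : G)⁻¹) * h.e⁻¹
        = (h.e * h.k) * a * (h.e * h.k)⁻¹ := by group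
      _ = (h.k : G) * (h.e * a * h.e⁻¹) * (h.k : G)⁻¹ := by rw [← h.k_e]; group
      _ = _ := by rw [ha.2]; group
  have hZe : ∀ z ∈ ZP, h.e * z = z * h.e := fun z hz => by
    have hz' := hnZP heP hz
    have e2 : h.e * (h.e * z * h.e⁻¹) * h.e⁻¹ = z := by
      rw [h.e_inv, show h.e * (h.e * z * h.e) * h.e = (h.e * h.e) * z * (h.e * h.e) by group, h.e_sq,
        one_mul, mul_one]
    have h1 : h.e * z * h.e⁻¹ * z⁻¹ ∈ I := ⟨mul_mem hz' (inv_mem hz), by
      rw [show h.e * (h.e * z * h.e⁻¹ * z⁻¹) * h.e⁻¹ =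
        (h.e * (h.e * z * h.e⁻¹) * h.e⁻¹) * (h.e * z * h.e⁻¹)⁻¹ by group, e2]
      group⟩
    rw [hI, Subgroup.mem_bot, mul_inv_eq_one] at h1
    exact mul_inv_eq_iff_eq_mul.1 h1
  have hZP1 : ∀ z ∈ ZP, z = 1 := fun z hz => by
    have hco := coprime_of_rgroup (p := p) hP hz.1 hrp
    have hzQ := h.cY_cent (h.mem_cY_of_comm (hPC hz.1) (hZe z hz)) hco
    refine eq_one_of_cR h.hG h.hT h.pre (fix_step (cR_isPGroup.to_le hR1R) hco (hPT hz.1) ?_) hco
    refine Subgroup.mem_centralizer_iff.2 fun y hy => ?_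
    have hle : R1 ≤ Subgroup.centralizer {z} := (Subgroup.closure_le _).2 (by
      rintro _ ⟨x, hx, q, hq, rfl⟩
      refine Subgroup.mem_centralizer_singleton_iff.2 ?_
      have c1 : Commute z x := (Subgroup.mem_centralizer_iff.1 hz.2 x hx).symm
      have c2 : Commute z q := (Subgroup.mem_centralizer_iff.1 hzQ q hq).symm
      exact ((c1.mul_right c2).mul_right c1.inv_right).eq.symm)
    exact Subgroup.mem_centralizer_singleton_iff.1 (hle hy)
  by_contra hne
  haveI : Nontrivial ↥P := (Subgroup.nontrivial_iff_ne_bot P).2 hne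
  haveI := hP.center_nontrivial
  obtain ⟨⟨z, hzc⟩, hz1⟩ := exists_ne (1 : ↥(Subgroup.center ↥P))
  refine hz1 (Subtype.ext (Subtype.ext (hZP1 _ ⟨z.2, Subgroup.mem_centralizer_iff.2 fun x hx => ?_⟩)))
  exact congrArg Subtype.val (Subgroup.mem_center_iff.1 hzc ⟨x, hx⟩)

end Ctx

end Cfsg.Agent.LocalEven.BlockCentral
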